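import Cfsg.Agent.Lib.Grp.BaseThree.Defs

/-!
# The multiplicity space of a normal homogeneous subgroup

When a normalised set of operators has a matrix splitting, the maps commuting with it form the
endomorphisms of one corner. The group acts projectively and irreducibly on that corner, so by
induction the corner has three good vectors.
-/

set_option autoImplicit false
set_option linter.style.haveILetI false

universe u

namespace Cfsg.Agent.BaseThree

open BaseTwo (IsInv IsCR IsIrr isCR_of_isIrr)

/-- A semilinear action. -/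
structure Semi (A V K : Type*) [Group A] [AddCommGroup V] [DistribMulAction A V] [Field K] [Module K V] where
  σ : A →* RingAut K
  semilinear : ∀ (a : A) (k : K) (v : V), a • k • v = σ a k • a • v

namespace Semi

variable {A V K : Type*} [Group A] [AddCommGroup V] [DistribMulAction A V] [Field K] [Module K V]
  (D : Semi A V K)

theorem semilinear_inv (a : A) (k : K) (v : V) : a⁻¹ • (D.σ a k • v) = k • a⁻¹ • v := by
  rw [inv_smul_eq_iff, D.semilinear, smul_inv_smul]

/-- Conjugation of a linear map. -/
def cj (a : A) (F : Module.End K V) : Module.End K V where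
  toFun v := a • F (a⁻¹ • v)
  map_add' v w := by rw [smul_add, map_add, smul_add]
  map_smul' k v := by
    simp only [RingHom.id_apply]
    obtain ⟨k', rfl⟩ := (D.σ a).surjective k
    rw [D.semilinear_inv, map_smul, D.semilinear]

theorem cj_apply (a : A) (F : Module.End K V) (v : V) : D.cj a F v = a • F (a⁻¹ • v) := rfl

theorem cj_smul_vec (a : A) (F : Module.End K V) (v : V) : D.cj a F (a • v) = a • F v := by
  rw [cj_apply, inv_smul_smul]

theorem cj_mul (a : A) (F G : Module.End K V) : D.cj a (F * G) = D.cj a F * D.cj a G := by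
  ext v
  simp only [Module.End.mul_apply, cj_apply, inv_smul_smul]

theorem cj_add (a : A) (F G : Module.End K V) : D.cj a (F + G) = D.cj a F + D.cj a G := by
  ext v
  simp only [LinearMap.add_apply, cj_apply, smul_add]

theorem cj_neg (a : A) (F : Module.End K V) : D.cj a (-F) = -D.cj a F := by
  ext v
  simp only [LinearMap.neg_apply, cj_apply, smul_neg]

theorem cj_sum {ι : Type*} (a : A) (s : Finset ι) (F : ι → Module.End K V) :
    D.cj a (∑ i ∈ s, F i) = ∑ i ∈ s, D.cj a (F i) := by
  ext v
  simp only [LinearMap.sum_apply, cj_apply, Finset.smul_sum]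

theorem cj_one (a : A) : D.cj a 1 = 1 := by
  ext v
  simp only [Module.End.one_apply, cj_apply, smul_inv_smul]

theorem cj_smul (a : A) (k : K) (F : Module.End K V) : D.cj a (k • F) = D.σ a k • D.cj a F := by
  ext v
  simp only [LinearMap.smul_apply, cj_apply, D.semilinear]

theorem cj_cj (a b : A) (F : Module.End K V) : D.cj a (D.cj b F) = D.cj (a * b) F := by
  ext v
  simp only [cj_apply, mul_smul, mul_inv_rev]

theorem cj_id (F : Module.End K V) : D.cj 1 F = F := by
  ext v
  simp only [cj_apply, inv_one, one_smul]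

theorem cj_inv_cj (a : A) (F : Module.End K V) : D.cj a (D.cj a⁻¹ F) = F := by
  rw [cj_cj, mul_inv_cancel, cj_id]

theorem cj_commute {a : A} {F e : Module.End K V} (h : D.cj a⁻¹ F * e = e * D.cj a⁻¹ F) :
    F * D.cj a e = D.cj a e * F := by
  have := congrArg (D.cj a) h
  rwa [cj_mul, cj_mul, cj_inv_cj] at this

end Semi

/-- A matrix splitting of a set of operators. -/
structure Split {K V : Type*} [Field K] [AddCommGroup V] [Module K V] (M : Set (Module.End K V))
    (J : Type*) [Fintype J] where
  P : Module.End K V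
  s : J → Module.End K V
  s' : J → Module.End K V
  j₀ : J
  s_zero : s j₀ = 1
  hs : ∀ j, s j * s' j = 1
  hs' : ∀ j, s' j * s j = 1
  idem : P * P = P
  orth : ∀ i j, i ≠ j → P * (s' i * s j) * P = 0
  sum_eq : ∑ j, s j * P * s' j = 1
  entries : ∀ e ∈ M, ∀ i j, ∃ k : K, P * (s' i * e * s j) * P = k • P
  gen : ∀ F : Module.End K V, (∀ e ∈ M, F * e = e * F) → F * P = P * F ∧ ∀ j, F * s j = s j * F

namespace Split

variable {K V : Type*} [Field K] [AddCommGroup V] [Module K V] {M : Set (Module.End K V)}
  {J : Type*} [Fintype J] (S : Split M J)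

/-- The linear map induced by a map of the corner. -/
def ext (F : Module.End K V) : Module.End K V := ∑ j, S.s j * (S.P * F * S.P) * S.s' j

theorem ext_commute (F : Module.End K V) {e : Module.End K V} (he : e ∈ M) :
    S.ext F * e = e * S.ext F := by
  classical
  choose k hk using S.entries e he
  have hl : S.ext F * e = ∑ i, ∑ j, k i j • (S.s i * (S.P * F * S.P) * S.s' j) := by
    calc S.ext F * e = S.ext F * (e * ∑ j, S.s j * S.P * S.s' j) := by rw [S.sum_eq, mul_one]
      _ = ∑ i, ∑ j, S.s i * (S.P * F) * (S.P * (S.s' i * e * S.s j) * S.P) * S.s' j := by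
        simp only [ext, Finset.sum_mul, Finset.mul_sum, mul_assoc]
        rw [Finset.sum_comm]
      _ = _ := by
        refine Finset.sum_congr rfl fun i _ => Finset.sum_congr rfl fun j _ => ?_
        rw [hk, mul_smul_comm, smul_mul_assoc]
        simp only [mul_assoc]
  have hr : e * S.ext F = ∑ i, ∑ j, k i j • (S.s i * (S.P * F * S.P) * S.s' j) := by
    calc e * S.ext F = (∑ i, S.s i * S.P * S.s' i) * e * S.ext F := by rw [S.sum_eq, one_mul]
      _ = ∑ i, ∑ j, S.s i * (S.P * (S.s' i * e * S.s j) * S.P) * (F * S.P) * S.s' j := by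
        simp only [ext, Finset.sum_mul, Finset.mul_sum, mul_assoc]
        rw [Finset.sum_comm]
      _ = _ := by
        refine Finset.sum_congr rfl fun i _ => Finset.sum_congr rfl fun j _ => ?_
        rw [hk, mul_smul_comm, smul_mul_assoc, smul_mul_assoc]
        simp only [mul_assoc]
  rw [hl, hr]

theorem P_s'_zero : S.s' S.j₀ = 1 := by
  have := S.hs' S.j₀
  rwa [S.s_zero, mul_one] at this

theorem ext_apply_of_mem (F : Module.End K V) {x : V} (hx : S.P x = x) : S.ext F x = S.P (F x) := by
  classical
  simp only [ext, LinearMap.sum_apply, Module.End.mul_apply]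
  rw [Finset.sum_eq_single S.j₀]
  · rw [S.s_zero, S.P_s'_zero, Module.End.one_apply, Module.End.one_apply, hx]
  · intro j _ hj
    have := DFunLike.congr_fun (S.orth j S.j₀ hj) x
    rw [S.s_zero, mul_one, Module.End.mul_apply, Module.End.mul_apply, hx, LinearMap.zero_apply] at this
    rw [this, map_zero, map_zero, map_zero]
  · exact fun h => absurd (Finset.mem_univ _) h

theorem decomp (v : V) : v = ∑ j, S.s j (S.P (S.s' j v)) := by
  have := DFunLike.congr_fun S.sum_eq v
  simp only [LinearMap.sum_apply, Module.End.mul_apply, Module.End.one_apply] at this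
  exact this.symm

end Split

/-- A linear map sending one vector to another. -/
theorem exists_map_of_ne_zero {K V : Type*} [Field K] [AddCommGroup V] [Module K V] {x : V} (hx : x ≠ 0)
    (y : V) : ∃ F : Module.End K V, F x = y := by
  obtain ⟨φ, hφ⟩ := (LinearPMap.mkSpanSingleton (K := K) x y hx).toFun.exists_extend
  refine ⟨φ, ?_⟩
  have := DFunLike.congr_fun hφ ⟨x, Submodule.mem_span_singleton_self x⟩
  simp only [LinearMap.coe_comp, Function.comp_apply, Submodule.coe_subtype] at this
  rw [this]
  exact LinearPMap.mkSpanSingleton_apply K K hx y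

/-- Three good vectors in the corner. -/
theorem exists_corner_triple {A V : Type u} {K J : Type*} [Group A] [Finite A] [Group.IsSolvable A]
    [AddCommGroup V] [Finite V] [Nontrivial V] [DistribMulAction A V] [Field K] [Finite K] [Module K V]
    [Fintype J] (D : Semi A V K) {M : Set (Module.End K V)} (S : Split M J)
    (hM : ∀ (a : A), ∀ e ∈ M, D.cj a e ∈ M) (hirr : IsIrr A V) (hJ : 2 ≤ Fintype.card J)
    (hK : 3 ≤ Nat.card K) {n : ℕ} (hn : Nat.card V ≤ n + 1) (IH : ModHyp.{u} n) :
    ∃ u : Fin 3 → V, (∀ k, S.P (u k) = u k) ∧ u 0 ≠ 0 ∧ u 1 ≠ 0 ∧ u 1 ≠ u 0 ∧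
      ∀ a : A, D.cj a S.P = S.P → (∀ k, a • u k = u k) → ∀ x, S.P x = x → a • x = x := by
  classical
  let L : Set (Module.End K V) := {F | ∀ e ∈ M, F * e = e * F}
  have hLP : ∀ F ∈ L, ∀ x, S.P x = x → S.P (F x) = F x := by
    intro F hF x hx
    have := DFunLike.congr_fun (S.gen F hF).1 x
    rw [Module.End.mul_apply, Module.End.mul_apply, hx] at this
    exact this.symm
  have hLext : ∀ F, S.ext F ∈ L := fun F e he => S.ext_commute F he
  have hLcj : ∀ (a : A), ∀ F ∈ L, D.cj a F ∈ L := by
    intro a F hF e he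
    have h := congrArg (D.cj a) (hF _ (hM a⁻¹ e he))
    rwa [Semi.cj_mul, Semi.cj_mul, Semi.cj_inv_cj] at h
  let U : AddSubgroup V :=
    { carrier := {x | S.P x = x}
      zero_mem' := map_zero _
      add_mem' := fun {x y} hx hy => by
        show S.P (x + y) = x + y
        rw [map_add, show S.P x = x from hx, show S.P y = y from hy]
      neg_mem' := fun {x} hx => by
        show S.P (-x) = -x
        rw [map_neg, show S.P x = x from hx] }
  have hPU : ∀ v, S.P v ∈ U := fun v => DFunLike.congr_fun S.idem v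
  -- the pairs of an element and a compatible map of the corner
  let Pr : Subgroup (A × (AddMonoid.End U)ˣ) :=
    { carrier := {ab | ∀ F ∈ L, ∀ (x y : U), (y : V) = F x →
        ((ab.2 : AddMonoid.End U) y : V) = D.cj ab.1 F ((ab.2 : AddMonoid.End U) x)}
      one_mem' := fun F _ x y hy => by rw [Prod.fst_one, Semi.cj_id]; exact hy
      mul_mem' := by
        rintro ⟨a, b⟩ ⟨a', b'⟩ h h' F hF x y hy
        show ((b : AddMonoid.End U) ((b' : AddMonoid.End U) y) : V) =
          D.cj (a * a') F ((b : AddMonoid.End U) ((b' : AddMonoid.End U) x))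
        rw [← Semi.cj_cj]
        exact h _ (hLcj a' F hF) _ _ (h' F hF x y hy)
      inv_mem' := by
        rintro ⟨a, b⟩ h F hF x y hy
        show ((↑b⁻¹ : AddMonoid.End U) y : V) = D.cj a⁻¹ F ((↑b⁻¹ : AddMonoid.End U) x)
        have hF' := hLcj a⁻¹ F hF
        let w : U := ⟨D.cj a⁻¹ F ((↑b⁻¹ : AddMonoid.End U) x), hLP _ hF' _ ((↑b⁻¹ : AddMonoid.End U) x).2⟩
        have h1 : ((b : AddMonoid.End U) w : V) = _ := h _ hF' ((↑b⁻¹ : AddMonoid.End U) x) w rfl
        have e1 : (b : AddMonoid.End U) ((↑b⁻¹ : AddMonoid.End U) x) = x :=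
          DFunLike.congr_fun b.mul_inv x
        rw [Semi.cj_inv_cj, e1, ← hy] at h1
        have e2 : (↑b⁻¹ : AddMonoid.End U) ((b : AddMonoid.End U) w) = w :=
          DFunLike.congr_fun b.inv_mul w
        rw [Subtype.ext h1] at e2
        exact congrArg Subtype.val e2 }
  have hU0 : ∃ x : U, x ≠ 0 := by
    obtain ⟨v, hv⟩ := exists_ne (0 : V)
    by_contra h
    push Not at h
    refine hv ((S.decomp v).trans (Finset.sum_eq_zero fun j _ => ?_))
    rw [show S.P (S.s' j v) = 0 from congrArg Subtype.val (h ⟨_, hPU _⟩), map_zero]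
  obtain ⟨x₀, hx₀⟩ := hU0
  haveI : Nontrivial U := ⟨⟨x₀, 0, hx₀⟩⟩
  haveI : Finite (AddMonoid.End U) := Finite.of_injective (fun f : AddMonoid.End U => (f : U → U)) DFunLike.coe_injective
  -- solvability
  haveI : Group.IsSolvable Pr := by
    let f : Pr →* A := (MonoidHom.fst A _).comp Pr.subtype
    haveI : Group.IsSolvable f.ker := by
      have hline : ∀ b : Pr, f b = 1 → ∀ x : U, ∃ k : K,
          (((b.1.2 : AddMonoid.End U) x : U) : V) = k • (x : V) := by
        intro b hb x
        have hb' : b.1.1 = 1 := hb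
        by_cases hx : (x : V) = 0
        · exact ⟨0, by rw [show x = 0 from Subtype.ext hx, map_zero, zero_smul]; rfl⟩
        by_contra hne
        push Not at hne
        have hmem : (((b.1.2 : AddMonoid.End U) x : U) : V) ∉ Submodule.span K {(x : V)} := fun h => by
          obtain ⟨k, hk⟩ := Submodule.mem_span_singleton.mp h
          exact hne k hk.symm
        obtain ⟨φ, hφ1, hφ0⟩ := Submodule.exists_dual_map_eq_bot_of_notMem hmem inferInstance
        let F : Module.End K V := φ.smulRight (x : V)
        have hFx : S.ext F x = 0 := by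
          rw [S.ext_apply_of_mem F x.2, LinearMap.smulRight_apply]
          rw [show φ (x : V) = 0 from by
            rw [← Submodule.mem_bot (R := K), ← hφ0]
            exact Submodule.mem_map_of_mem (Submodule.mem_span_singleton_self _), zero_smul, map_zero]
        have h := b.2 _ (hLext F) x 0 hFx.symm
        rw [hb', Semi.cj_id, map_zero, S.ext_apply_of_mem F ((b.1.2 : AddMonoid.End U) x).2,
          LinearMap.smulRight_apply, map_smul, x.2] at h
        rcases smul_eq_zero.mp h.symm with h | h
        · exact hφ1 h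
        · exact hx h
      refine Group.isSolvable_of_comm fun b b' => Subtype.ext (Subtype.ext (Prod.ext ?_ ?_))
      · show b.1.1.1 * b'.1.1.1 = b'.1.1.1 * b.1.1.1
        rw [show b.1.1.1 = 1 from b.2, show b'.1.1.1 = 1 from b'.2]
      refine Units.ext (AddMonoidHom.ext fun x => Subtype.ext ?_)
      show ((b.1.1.2 : AddMonoid.End U) ((b'.1.1.2 : AddMonoid.End U) x) : V) =
        ((b'.1.1.2 : AddMonoid.End U) ((b.1.1.2 : AddMonoid.End U) x) : V)
      obtain ⟨k, hk⟩ := hline _ b.2 x
      obtain ⟨k', hk'⟩ := hline _ b'.2 x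
      have hscal : ∀ c : K, (c • 1 : Module.End K V) ∈ L := fun c e _ => by
        rw [smul_mul_assoc, mul_smul_comm, one_mul, mul_one]
      have e1 := b.1.2 _ (hscal k') x ((b'.1.1.2 : AddMonoid.End U) x) hk'
      have e2 := b'.1.2 _ (hscal k) x ((b.1.1.2 : AddMonoid.End U) x) hk
      rw [show b.1.1.1 = 1 from b.2, Semi.cj_id] at e1
      rw [show b'.1.1.1 = 1 from b'.2, Semi.cj_id] at e2
      rw [e1, e2, LinearMap.smul_apply, LinearMap.smul_apply, Module.End.one_apply, Module.End.one_apply, hk, hk',
        smul_smul, smul_smul, mul_comm]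
    exact Group.isSolvable_of_ker_le_range f.ker.subtype f (by rw [Subgroup.range_subtype])
  letI actU : DistribMulAction Pr U :=
    { smul := fun b x => (b.1.2 : AddMonoid.End U) x
      one_smul := fun x => rfl
      mul_smul := fun b b' x => rfl
      smul_zero := fun b => map_zero (b.1.2 : AddMonoid.End U)
      smul_add := fun b x y => map_add (b.1.2 : AddMonoid.End U) x y }
  -- every element acts on the corner
  have hexists : ∀ a : A, ∃ b : Pr, b.1.1 = a := by
    intro a
    obtain ⟨i, hi⟩ : ∃ i, S.P (S.s' i (a • (x₀ : V))) ≠ 0 := by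
      by_contra h
      push Not at h
      refine hx₀ (Subtype.ext ((smul_eq_zero_iff_eq a).mp ((S.decomp _).trans ?_)))
      exact Finset.sum_eq_zero fun j _ => by rw [h j, map_zero]
    let β : U →+ U :=
      { toFun := fun x => ⟨S.P (S.s' i (a • (x : V))), hPU _⟩
        map_zero' := Subtype.ext (by simp)
        map_add' := fun x y => Subtype.ext (by simp) }
    have hβF : ∀ F ∈ L, ∀ x y : U, (y : V) = F x → (β y : V) = D.cj a F (β x) := by
      intro F hF x y hy
      have hF' := hLcj a F hF
      obtain ⟨hP, hs⟩ := S.gen _ hF'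
      have hs' : D.cj a F * S.s' i = S.s' i * D.cj a F := by
        calc D.cj a F * S.s' i = S.s' i * (S.s i * D.cj a F) * S.s' i := by
              simp only [← mul_assoc, S.hs', one_mul]
          _ = S.s' i * (D.cj a F * S.s i) * S.s' i := by rw [hs i]
          _ = S.s' i * D.cj a F * (S.s i * S.s' i) := by simp only [mul_assoc]
          _ = _ := by rw [S.hs, mul_one]
      show S.P (S.s' i (a • (y : V))) = D.cj a F (S.P (S.s' i (a • (x : V))))
      rw [hy, ← Semi.cj_smul_vec]
      have e := DFunLike.congr_fun (show D.cj a F * (S.P * S.s' i) = S.P * S.s' i * D.cj a F by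
        rw [← mul_assoc, hP, mul_assoc, hs', ← mul_assoc]) (a • (x : V))
      exact e.symm
    have hβ : Function.Injective β := by
      rw [injective_iff_map_eq_zero]
      intro x hx
      by_contra hx0
      obtain ⟨F, hF⟩ := exists_map_of_ne_zero (K := K) (fun h => hx0 (Subtype.ext h)) (x₀ : V)
      have := hβF _ (hLext F) x x₀ (by rw [S.ext_apply_of_mem F x.2, hF, x₀.2])
      rw [hx, ZeroMemClass.coe_zero, map_zero] at this
      exact hi this
    let e := AddEquiv.ofBijective β ⟨hβ, Finite.injective_iff_surjective.mp hβ⟩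
    exact ⟨⟨(a, ⟨e.toAddMonoidHom, e.symm.toAddMonoidHom, AddMonoidHom.ext fun x => e.apply_symm_apply x,
      AddMonoidHom.ext fun x => e.symm_apply_apply x⟩), hβF⟩, rfl⟩
  have hirrU : IsIrr Pr U := by
    intro W hW
    by_contra hne
    push Not at hne
    let V' : AddSubgroup V :=
      { carrier := {v | ∀ F ∈ L, (∀ w ∈ W, F (w : V) = 0) → F v = 0}
        zero_mem' := fun F _ _ => map_zero F
        add_mem' := fun {v v'} hv hv' F h1 h2 => by rw [map_add, hv F h1 h2, hv' F h1 h2, add_zero]
        neg_mem' := fun {v} hv F h1 h2 => by rw [map_neg, hv F h1 h2, neg_zero] }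
    have hV' : IsInv A V' := by
      intro a v hv F hF hFW
      have h := hv _ (hLcj a⁻¹ F hF) fun w hw => ?_
      · rw [Semi.cj_apply, inv_inv, inv_smul_eq_iff, smul_zero] at h
        exact h
      obtain ⟨b, rfl⟩ := hexists a
      let y : U := ⟨D.cj b.1.1⁻¹ F w, hLP _ (hLcj _ F hF) _ w.2⟩
      have e := b.2 _ (hLcj _ F hF) w y rfl
      rw [Semi.cj_inv_cj, show F (((b.1.2 : AddMonoid.End U) w : U) : V) = 0 from hFW _ (hW b w hw)] at e
      have e2 : (↑b.1.2⁻¹ : AddMonoid.End U) ((b.1.2 : AddMonoid.End U) y) = y :=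
        DFunLike.congr_fun b.1.2.inv_mul y
      rw [show (b.1.2 : AddMonoid.End U) y = 0 from Subtype.ext e, map_zero] at e2
      exact congrArg Subtype.val e2.symm
    -- the corner part is a subspace
    have hscal : ∀ (k : K), ∀ w ∈ W, ∀ h : S.P (k • (w : V)) = k • (w : V), (⟨k • (w : V), h⟩ : U) ∈ W := by
      intro k w hw h
      by_cases hk : k = 0
      · rw [show (⟨k • (w : V), h⟩ : U) = 0 from Subtype.ext (by simp [hk])]
        exact W.zero_mem
      let mk : K → AddMonoid.End U := fun c =>
        { toFun := fun x => ⟨c • (x : V), show S.P (c • (x : V)) = _ by rw [map_smul, x.2]⟩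
          map_zero' := Subtype.ext (smul_zero c)
          map_add' := fun x y => Subtype.ext (smul_add c (x : V) y) }
      let b : (AddMonoid.End U)ˣ := ⟨mk k, mk k⁻¹,
        AddMonoidHom.ext fun x => Subtype.ext (by
          show k • k⁻¹ • (x : V) = x
          rw [smul_smul, mul_inv_cancel₀ hk, one_smul]),
        AddMonoidHom.ext fun x => Subtype.ext (by
          show k⁻¹ • k • (x : V) = x
          rw [smul_smul, inv_mul_cancel₀ hk, one_smul])⟩
      have hb : ((1 : A), b) ∈ Pr := fun F _ x y hy => by
        show k • (y : V) = D.cj 1 F (k • (x : V))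
        rw [Semi.cj_id, hy, map_smul]
      exact hW ⟨_, hb⟩ w hw
    let Ws : Submodule K V :=
      { carrier := {v | ∃ h : S.P v = v, (⟨v, h⟩ : U) ∈ W}
        zero_mem' := ⟨map_zero _, W.zero_mem⟩
        add_mem' := by
          rintro v v' ⟨h, hv⟩ ⟨h', hv'⟩
          exact ⟨by rw [map_add, h, h'], W.add_mem hv hv'⟩
        smul_mem' := by
          rintro k v ⟨h, hv⟩
          exact ⟨by rw [map_smul, h], hscal k _ hv _⟩ }
    rcases hirr V' hV' with h | h
    · refine hne.1 (W.eq_bot_iff_forall.mpr fun w hw => ?_)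
      have : (w : V) ∈ V' := fun F _ hFW => hFW w hw
      rw [h, AddSubgroup.mem_bot] at this
      exact Subtype.ext this
    · obtain ⟨y, hy⟩ : ∃ y : U, y ∉ W := by
        by_contra hall
        push Not at hall
        exact hne.2 (eq_top_iff.mpr fun y _ => hall y)
      have hyW : (y : V) ∉ Ws := fun ⟨_, h⟩ => hy h
      obtain ⟨φ, hφ1, hφ0⟩ := Submodule.exists_dual_map_eq_bot_of_notMem hyW inferInstance
      let F : Module.End K V := φ.smulRight (y : V)
      have hy' : (y : V) ∈ V' := h ▸ trivial
      have := hy' (S.ext F) (hLext F) fun w hw => by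
        rw [S.ext_apply_of_mem F w.2, LinearMap.smulRight_apply,
          show φ (w : V) = 0 by
            rw [← Submodule.mem_bot (R := K), ← hφ0]
            exact Submodule.mem_map_of_mem ⟨w.2, hw⟩, zero_smul, map_zero]
      rw [S.ext_apply_of_mem F y.2, LinearMap.smulRight_apply, map_smul, y.2] at this
      rcases smul_eq_zero.mp this with h1 | h1
      · exact hφ1 h1
      · exact hy (by rw [show y = 0 from Subtype.ext h1]; exact W.zero_mem)
  have hlt : Nat.card U ≤ n := by
    have : Nat.card U < Nat.card V := by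
      refine lt_of_le_of_ne (AddSubgroup.card_le_card_addGroup U) fun h => ?_
      have htop := AddSubgroup.eq_top_of_card_eq U h
      have hP1 : S.P = 1 := LinearMap.ext fun v => (htop ▸ trivial : v ∈ U)
      obtain ⟨j, hj⟩ := Fintype.exists_ne_of_one_lt_card (by omega) S.j₀
      have := S.orth j S.j₀ hj
      rw [hP1, one_mul, mul_one, S.s_zero, mul_one] at this
      have h2 := S.hs j
      rw [this, mul_zero] at h2
      obtain ⟨v, hv⟩ := exists_ne (0 : V)
      exact hv (DFunLike.congr_fun h2 v).symm
    omega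
  obtain ⟨v, hv⟩ := IH Pr U inferInstance (isCR_of_isIrr hirrU) hlt
  -- normalise
  obtain ⟨u, hu0, hu1, hu10, huv⟩ : ∃ u : Fin 3 → U, u 0 ≠ 0 ∧ u 1 ≠ 0 ∧ u 1 ≠ u 0 ∧
      ∀ k, v k = 0 ∨ ∃ l, v k = u l := by
    by_cases h : ∃ i j, v i ≠ 0 ∧ v j ≠ 0 ∧ v i ≠ v j
    · obtain ⟨i, j, hi, hj, hij⟩ := h
      obtain ⟨l, hl⟩ : ∃ l : Fin 3, ∀ k, k = i ∨ k = j ∨ k = l := by
        have hne : i ≠ j := fun e => hij (congrArg v e)
        revert hne; clear hi hj hij; revert i j; decide
      refine ⟨![v i, v j, v l], hi, hj, Ne.symm hij, fun k => ?_⟩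
      rcases hl k with rfl | rfl | rfl
      · exact Or.inr ⟨0, rfl⟩
      · exact Or.inr ⟨1, rfl⟩
      · exact Or.inr ⟨2, rfl⟩
    · push Not at h
      obtain ⟨x, hx, hxv⟩ : ∃ x : U, x ≠ 0 ∧ ∀ k, v k = 0 ∨ v k = x := by
        by_cases h' : ∃ i, v i ≠ 0
        · obtain ⟨i, hi⟩ := h'
          refine ⟨v i, hi, fun k => ?_⟩
          by_cases hk : v k = 0
          · exact Or.inl hk
          · exact Or.inr (h k i hk hi)
        · push Not at h'
          exact ⟨x₀, hx₀, fun k => Or.inl (h' k)⟩
      obtain ⟨c, hc0, hc1⟩ : ∃ c : K, c ≠ 0 ∧ c ≠ 1 := by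
        by_contra hall
        push Not at hall
        haveI := Fintype.ofFinite K
        have : (Finset.univ : Finset K).card ≤ ({0, 1} : Finset K).card := Finset.card_le_card fun c _ => by
          by_cases hc : c = 0
          · simp [hc]
          · simp [hall c hc]
        rw [Finset.card_univ, ← Nat.card_eq_fintype_card] at this
        have := this.trans Finset.card_le_two
        omega
      let y : U := ⟨c • (x : V), show S.P (c • (x : V)) = _ by rw [map_smul, x.2]⟩
      refine ⟨![x, y, y], hx, fun h => ?_, fun h => ?_, fun k => ?_⟩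
      · exact hx (Subtype.ext ((smul_eq_zero.mp (congrArg Subtype.val h : c • (x : V) = 0)).resolve_left hc0))
      · have e : (c - 1) • (x : V) = 0 := by
          rw [sub_smul, one_smul, sub_eq_zero]
          exact congrArg Subtype.val h
        exact hx (Subtype.ext ((smul_eq_zero.mp e).resolve_left (sub_ne_zero.mpr hc1)))
      · rcases hxv k with hk | hk
        · exact Or.inl hk
        · exact Or.inr ⟨0, hk⟩
  refine ⟨fun k => u k, fun k => (u k).2, fun h => hu0 (Subtype.ext h), fun h => hu1 (Subtype.ext h),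
    fun h => hu10 (Subtype.ext h), fun a haP hau x hx => ?_⟩
  have haU : ∀ c : A, D.cj c S.P = S.P → ∀ y : U, S.P (c • (y : V)) = c • (y : V) := by
    intro c hc y
    conv_lhs => rw [← hc]
    rw [Semi.cj_smul_vec, y.2]
  have haP' : D.cj a⁻¹ S.P = S.P := by
    conv_lhs => rw [← haP]
    rw [Semi.cj_cj, inv_mul_cancel, Semi.cj_id]
  let mk : ∀ c : A, D.cj c S.P = S.P → AddMonoid.End U := fun c hc =>
    { toFun := fun y => ⟨c • (y : V), haU c hc y⟩
      map_zero' := Subtype.ext (smul_zero c)
      map_add' := fun y z => Subtype.ext (smul_add c (y : V) z) }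
  let b : (AddMonoid.End U)ˣ := ⟨mk a haP, mk a⁻¹ haP',
    AddMonoidHom.ext fun y => Subtype.ext (smul_inv_smul a (y : V)),
    AddMonoidHom.ext fun y => Subtype.ext (inv_smul_smul a (y : V))⟩
  have hb : (a, b) ∈ Pr := fun F _ y z hz => by
    show a • (z : V) = D.cj a F (a • (y : V))
    rw [Semi.cj_smul_vec, hz]
  have htriv := hv ⟨_, hb⟩ fun k => by
    rcases huv k with h | ⟨l, h⟩
    · rw [h]; exact smul_zero _
    · rw [h]; exact Subtype.ext (hau l)
  exact congrArg Subtype.val (htriv ⟨x, hx⟩)

end Cfsg.Agent.BaseThree
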