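import Cfsg.Agent.Lib.Grp.BaseThree.Defs

/-!
# Three colours on a space, rigid for a solvable group of invertible maps

Apart from the origin three colours suffice to break every solvable group of invertible linear maps
over a prime field, in each dimension.
-/

set_option autoImplicit false
set_option linter.style.haveILetI false

namespace Cfsg.Agent.BaseThree

variable {r : ℕ} [Fact r.Prime] {m : ℕ}

theorem linearEquiv_ext_single (σ τ : (Fin m → ZMod r) ≃ₗ[ZMod r] (Fin m → ZMod r))
    (h : ∀ i, σ (Pi.single i 1) = τ (Pi.single i 1)) : σ = τ := by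
  refine LinearEquiv.toLinearMap_injective (LinearMap.pi_ext fun i x => ?_)
  have e : (Pi.single i x : Fin m → ZMod r) = x • Pi.single i 1 := by
    rw [← Pi.single_smul, smul_eq_mul, mul_one]
  rw [e]
  simp only [LinearEquiv.coe_coe, map_smul, h]

/-- The small dimensions. -/
theorem pattern_le_two (hm : m ≤ 2) : ∃ col : (Fin m → ZMod r) → Fin 3,
    ∀ σ : (Fin m → ZMod r) ≃ₗ[ZMod r] (Fin m → ZMod r), (∀ c, c ≠ 0 → col (σ c) = col c) → σ = 1 := by
  classical
  have hne : ∀ i : Fin m, (Pi.single i 1 : Fin m → ZMod r) ≠ 0 := fun i h => by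
    have := congrFun h i
    simp at this
  let col : (Fin m → ZMod r) → Fin 3 := fun c =>
    if h : ∃ i : Fin m, c = Pi.single i 1 then ⟨h.choose.val + 1, by omega⟩ else 0
  have hcol : ∀ i, col (Pi.single i 1) = ⟨i.val + 1, by omega⟩ := by
    intro i
    have h : ∃ j : Fin m, (Pi.single i 1 : Fin m → ZMod r) = Pi.single j 1 := ⟨i, rfl⟩
    have he : i = h.choose := by
      have := congrFun h.choose_spec i
      by_contra hne'
      simp [hne'] at this
    simp only [col, dif_pos h, ← he]
  refine ⟨col, fun σ hσ => linearEquiv_ext_single _ _ fun i => ?_⟩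
  have h := hσ _ (hne i)
  rw [hcol] at h
  by_cases hex : ∃ j : Fin m, σ (Pi.single i 1) = Pi.single j 1
  · obtain ⟨j, hj⟩ := hex
    rw [hj, hcol, Fin.mk.injEq] at h
    rw [hj, show j = i from Fin.ext (by omega)]
    rfl
  · simp only [col, dif_neg hex] at h
    exact absurd (congrArg Fin.val h) (Nat.succ_ne_zero _).symm

/-- Three dimensions: the only symmetry of the colouring is a transvection. -/
theorem pattern_three (i j k : Fin 3) (hij : i ≠ j) (hik : i ≠ k) (hjk : j ≠ k) :
    ∃ col : (Fin 3 → ZMod r) → Fin 3, ∀ σ : (Fin 3 → ZMod r) ≃ₗ[ZMod r] (Fin 3 → ZMod r),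
      (∀ c, c ≠ 0 → col (σ c) = col c) → σ = 1 ∨ σ = transv i j hij := by
  classical
  have hcases : ∀ l : Fin 3, l = i ∨ l = j ∨ l = k := by
    intro l; revert hij hik hjk; revert i j k l; decide
  set ei : Fin 3 → ZMod r := Pi.single i 1 with hei
  set ej : Fin 3 → ZMod r := Pi.single j 1 with hej
  set ek : Fin 3 → ZMod r := Pi.single k 1 with hek
  let col : (Fin 3 → ZMod r) → Fin 3 := fun c =>
    if c = ei then 1 else if c = ej ∨ c = ek ∨ c = ei + ej then 2 else 0
  have h1 : ∀ c, col c = 1 → c = ei := by
    intro c h
    simp only [col] at h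
    split_ifs at h with ha hb
    · exact ha
    · exact absurd h (by decide)
    · exact absurd h (by decide)
  have h2 : ∀ c, col c = 2 → c = ej ∨ c = ek ∨ c = ei + ej := by
    intro c h
    simp only [col] at h
    split_ifs at h with ha hb
    · exact absurd h (by decide)
    · exact hb
    · exact absurd h (by decide)
  have nej : ej ≠ ei := fun h => by
    have := congrFun h j
    simp [hei, hej, hij.symm] at this
  have nek : ek ≠ ei := fun h => by
    have := congrFun h k
    simp [hei, hek, hik.symm] at this
  have nij : ei + ej ≠ ei := fun h => by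
    have := congrFun h j
    simp [hei, hej, hij.symm] at this
  refine ⟨col, fun σ hσ => ?_⟩
  have si : σ ei = ei := h1 _ (by
    rw [hσ ei (fun h => by have := congrFun h i; simp [hei] at this)]
    simp [col])
  have sj := h2 (σ ej) (by
    rw [hσ ej (fun h => by have := congrFun h j; simp [hej] at this)]
    simp [col, nej])
  have sk := h2 (σ ek) (by
    rw [hσ ek (fun h => by have := congrFun h k; simp [hek] at this)]
    simp [col, nek])
  have sij := h2 (σ (ei + ej)) (by
    rw [hσ (ei + ej) (fun h => by have := congrFun h j; simp [hei, hej, hij.symm] at this)]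
    simp [col, nij])
  rw [map_add, si] at sij
  have hext : ∀ τ : (Fin 3 → ZMod r) ≃ₗ[ZMod r] (Fin 3 → ZMod r),
      τ ei = ei → τ ej = σ ej → τ ek = σ ek → σ = τ := by
    intro τ t1 t2 t3
    refine linearEquiv_ext_single _ _ fun l => ?_
    rcases hcases l with h | h | h <;> subst h
    · exact si.trans t1.symm
    · exact t2.symm
    · exact t3.symm
  have hinj : σ ek ≠ σ ej := fun h => by
    have := congrFun (σ.injective h) k
    simp [hej, hek, hjk.symm] at this
  rcases sj with e | e | e
  · left
    refine hext 1 rfl e.symm ?_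
    rcases sk with f | f | f
    · exact absurd (f.trans e.symm) hinj
    · exact f.symm
    · exfalso
      have : σ ek = σ (ei + ej) := by rw [f, map_add, si, e]
      have := congrFun (σ.injective this) k
      simp [hei, hej, hek, hik.symm, hjk.symm] at this
  · exfalso
    rw [e] at sij
    rcases sij with f | f | f
    · have := congrFun f k
      simp [hei, hej, hek, hik.symm, hjk.symm] at this
    · have := congrFun f i
      simp [hei, hek, hik] at this
    · have := congrFun f k
      simp [hei, hej, hek, hik.symm, hjk.symm] at this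
  · right
    have hejt : transv i j hij ej = ei + ej := by
      rw [transv_apply, hej, Pi.single_eq_same, add_comm]
    have heit : transv i j hij ei = ei := by
      rw [transv_apply, hei, Pi.single_eq_of_ne hij.symm, Pi.single_zero, add_zero]
    have hekt : transv i j hij ek = ek := by
      rw [transv_apply, hek, Pi.single_eq_of_ne hjk, Pi.single_zero, add_zero]
    refine hext _ heit (hejt.trans e.symm) (hekt.trans ?_)
    rw [e] at sij
    rcases sij with f | f | f
    · rcases sk with g | g | g
      · exfalso
        have : σ ek = σ (ei + ej) := by rw [g, map_add, si, e, f]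
        have := congrFun (σ.injective this) k
        simp [hei, hej, hek, hik.symm, hjk.symm] at this
      · exact g.symm
      · exact absurd (g.trans e.symm) hinj
    · exfalso
      have := congrFun f k
      simp [hei, hej, hek, hik.symm, hjk.symm] at this
    · exfalso
      have := congrFun f i
      simp [hei, hej, hij] at this

/-- Four or more dimensions. -/
theorem pattern_ge_four (hm : 4 ≤ m) : ∃ col : (Fin m → ZMod r) → Fin 3,
    ∀ σ : (Fin m → ZMod r) ≃ₗ[ZMod r] (Fin m → ZMod r), (∀ c, c ≠ 0 → col (σ c) = col c) → σ = 1 := by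
  classical
  let ind : Finset (Fin m) → (Fin m → ZMod r) := fun T i => if i ∈ T then 1 else 0
  have hind : Function.Injective ind := by
    intro T T' h
    ext i
    have := congrFun h i
    by_cases hi : i ∈ T <;> by_cases hi' : i ∈ T' <;> simp [ind, hi, hi'] at this ⊢
  have hsum : ∀ T, ind T = ∑ i ∈ T, Pi.single i 1 := by
    intro T
    funext l
    simp [ind, Finset.sum_apply, Pi.single_apply]
  have hsing : ∀ i, ind {i} = Pi.single i 1 := fun i => by rw [hsum, Finset.sum_singleton]
  let low : ℕ → Finset (Fin m) := fun j => Finset.univ.filter (fun i => i.val < j)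
  let W : Finset (Fin m) := {⟨0, by omega⟩, ⟨2, by omega⟩, ⟨3, by omega⟩}
  let C2 : Finset (Fin m) → Prop := fun T => (∃ j, 2 ≤ j ∧ j ≤ m ∧ T = low j) ∨ T = W
  have hlow : ∀ j, j ≤ m → (low j).card = j := by
    intro j hj
    rw [← Finset.card_range j]
    refine Finset.card_bij (fun i _ => i.val) (fun i hi => ?_) (fun a _ b _ h => Fin.ext h) (fun b hb => ?_)
    · simpa [low] using hi
    · have hb' : b < j := Finset.mem_range.mp hb
      exact ⟨⟨b, by omega⟩, by simp [low, hb'], rfl⟩
  have hW : W.card = 3 := by simp [W]
  have hC2card : ∀ T, C2 T → 2 ≤ T.card := by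
    rintro T (⟨j, h1, h2, rfl⟩ | rfl)
    · rw [hlow j h2]; exact h1
    · omega
  let col : (Fin m → ZMod r) → Fin 3 := fun c =>
    if ∃ i, c = ind {i} then 1 else if ∃ T, C2 T ∧ c = ind T then 2 else 0
  have hnz : ∀ T : Finset (Fin m), T.Nonempty → ind T ≠ 0 := by
    rintro T ⟨i, hi⟩ h
    have := congrFun h i
    simp [ind, hi] at this
  refine ⟨col, fun σ hσ => ?_⟩
  -- the induced permutation
  have hπ : ∀ i, ∃ j, σ (ind {i}) = ind {j} := by
    intro i
    have h := hσ _ (hnz {i} (Finset.singleton_nonempty i))
    simp only [col] at h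
    rw [if_pos (⟨i, rfl⟩ : ∃ j, ind {i} = ind {j})] at h
    split_ifs at h with ha hb
    · exact ha
    · exact absurd h (by decide)
    · exact absurd h (by decide)
  choose π hπ using hπ
  have hπinj : Function.Injective π := fun a b h => by
    have := hπ a
    rw [h, ← hπ b] at this
    exact Finset.singleton_injective (hind (σ.injective this))
  have himg : ∀ T, σ (ind T) = ind (T.image π) := by
    intro T
    rw [hsum T, map_sum, hsum (T.image π), Finset.sum_image fun a _ b _ h => hπinj h]
    refine Finset.sum_congr rfl fun i _ => ?_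
    rw [← hsing, hπ, hsing]
  have hC2 : ∀ T, C2 T → C2 (T.image π) := by
    intro T hT
    have hT2 := hC2card T hT
    have h := hσ _ (hnz T (Finset.card_pos.mp (by omega)))
    rw [himg] at h
    simp only [col] at h
    rw [if_neg (show ¬ ∃ i, ind T = ind {i} from fun ⟨i, hi⟩ => by
      rw [hind hi, Finset.card_singleton] at hT2; omega), if_pos (⟨T, hT, rfl⟩ : ∃ T', C2 T' ∧ ind T = ind T')] at h
    split_ifs at h with ha hb
    · exact absurd h (by decide)
    · obtain ⟨T', hT', e⟩ := hb
      rwa [hind e]
    · exact absurd h (by decide)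
  have hcard : ∀ T : Finset (Fin m), (T.image π).card = T.card := fun T => Finset.card_image_of_injective T hπinj
  have hfix2 : (low 2).image π = low 2 := by
    rcases hC2 _ (Or.inl ⟨2, le_rfl, by omega, rfl⟩) with ⟨j, h1, h2, e⟩ | e
    · have := congrArg Finset.card e
      rw [hcard, hlow 2 (by omega), hlow j h2] at this
      rw [e, this]
    · have := congrArg Finset.card e
      rw [hcard, hlow 2 (by omega), hW] at this
      omega
  have h3W : ¬ low 2 ⊆ W := fun h => by
    have := h (show (⟨1, by omega⟩ : Fin m) ∈ low 2 by simp [low])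
    simp [W] at this
  have hfix3 : (low 3).image π = low 3 := by
    rcases hC2 _ (Or.inl ⟨3, by omega, by omega, rfl⟩) with ⟨j, h1, h2, e⟩ | e
    · have := congrArg Finset.card e
      rw [hcard, hlow 3 (by omega), hlow j h2] at this
      rw [e, this]
    · refine absurd ?_ h3W
      rw [← e, ← hfix2]
      refine Finset.image_subset_image fun i hi => ?_
      simp [low] at hi ⊢
      omega
  have hfixW : W.image π = W := by
    rcases hC2 _ (Or.inr rfl) with ⟨j, h1, h2, e⟩ | e
    · have := congrArg Finset.card e
      rw [hcard, hW, hlow j h2] at this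
      subst this
      have : W = low 3 := Finset.image_injective hπinj (e.trans hfix3.symm)
      refine absurd ?_ h3W
      rw [this]
      intro i hi
      simp [low] at hi ⊢
      omega
    · exact e
  have hfix : ∀ j, 2 ≤ j → j ≤ m → (low j).image π = low j := by
    intro j h1 h2
    rcases hC2 _ (Or.inl ⟨j, h1, h2, rfl⟩) with ⟨l, l1, l2, e⟩ | e
    · have := congrArg Finset.card e
      rw [hcard, hlow j h2, hlow l l2] at this
      rw [e, this]
    · have := congrArg Finset.card e
      rw [hcard, hlow j h2, hW] at this
      subst this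
      exact hfix3
  have hmem : ∀ {T : Finset (Fin m)}, T.image π = T → ∀ i, π i ∈ T ↔ i ∈ T := by
    intro T hT i
    constructor
    · intro h
      rw [← hT, Finset.mem_image] at h
      obtain ⟨l, hl, e⟩ := h
      rwa [← hπinj e]
    · intro h
      rw [← hT]
      exact Finset.mem_image_of_mem π h
  refine linearEquiv_ext_single _ _ fun i => ?_
  rw [← hsing, hπ]
  have hπi : π i = i := by
    apply Fin.ext
    have hlt : ∀ j, 2 ≤ j → j ≤ m → ((π i).val < j ↔ i.val < j) := fun j h1 h2 => by
      have := hmem (hfix j h1 h2) i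
      simpa [low] using this
    have hw := hmem hfixW i
    simp [W, Fin.ext_iff] at hw
    have hπm := (π i).isLt
    have him := i.isLt
    rcases Nat.lt_or_ge i.val 4 with hi | hi
    · have h2 := hlt 2 le_rfl (by omega)
      have h3 := hlt 3 (by omega) (by omega)
      have h4 := hlt 4 (by omega) hm
      omega
    · have ha := hlt i.val (by omega) (by omega)
      have hb := hlt (i.val + 1) (by omega) (by omega)
      omega
  rw [hπi]
  rfl

/-- Three colours breaking a solvable group of invertible maps. -/
theorem exists_pattern {G : Type*} [Group G] [Group.IsSolvable G]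
    (ρ : G →* ((Fin m → ZMod r) ≃ₗ[ZMod r] (Fin m → ZMod r))) :
    ∃ col : (Fin m → ZMod r) → Fin 3, ∀ g, (∀ c, c ≠ 0 → col (ρ g c) = col c) → ρ g = 1 := by
  rcases Nat.lt_or_ge m 3 with h | h
  · obtain ⟨col, hcol⟩ := pattern_le_two (r := r) (m := m) (by omega)
    exact ⟨col, fun g hg => hcol _ hg⟩
  rcases Nat.lt_or_ge m 4 with h' | h'
  swap
  · obtain ⟨col, hcol⟩ := pattern_ge_four (r := r) h'
    exact ⟨col, fun g hg => hcol _ hg⟩
  obtain rfl : m = 3 := by omega
  by_contra hno
  push Not at hno
  refine not_isSolvable_of_transv ρ.range (fun i j hij => ?_) (Group.isSolvable_of_surjective ρ.rangeRestrict_surjective)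
  obtain ⟨k, hik, hjk⟩ : ∃ k : Fin 3, i ≠ k ∧ j ≠ k := by revert hij; revert i j; decide
  obtain ⟨col, hcol⟩ := pattern_three (r := r) i j k hij hik hjk
  obtain ⟨g, hg, hg1⟩ := hno col
  exact ⟨g, (hcol _ hg).resolve_left hg1⟩

end Cfsg.Agent.BaseThree
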