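import Cfsg.Agent.Lib.Grp.BaseThree.Twist
import Cfsg.Agent.Lib.Grp.BaseThree.Pattern

/-!
# Three vectors from a frame

A group normalising a set of operators with a frame has three vectors: a corner vector, an
eigenvector of the opposite side, and a coloured combination which breaks all symmetries of the
frame and of the corner.
-/

set_option autoImplicit false
set_option linter.style.haveILetI false

universe u

namespace Cfsg.Agent.BaseThree

open BaseTwo (IsIrr)

namespace Ops

variable {K E : Type*} [Field K] [Ring E] [Algebra K E] {r : ℕ} {ζ : K} (O : Ops K E r ζ)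

include O

theorem natCast_ne_zero : (r : K) ≠ 0 := by
  intro h
  haveI : CharP K r := by
    obtain ⟨p, hp⟩ := CharP.exists K
    rcases (CharP.char_is_prime_or_zero K p) with hp' | hp'
    · have := (CharP.cast_eq_zero_iff K p r).mp h
      rw [← (Nat.prime_dvd_prime_iff_eq hp' O.prime).mp this]
      exact hp
    · subst hp'
      exact absurd (Nat.eq_zero_of_zero_dvd ((CharP.cast_eq_zero_iff K 0 r).mp h)) O.prime.ne_zero
  haveI := Fact.mk O.prime
  have h1 : (ζ - 1) ^ r = 0 := by rw [sub_pow_char, O.root.pow_eq_one, one_pow, sub_self]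
  exact O.root.ne_one O.prime.one_lt (sub_eq_zero.mp (eq_zero_of_pow_eq_zero h1))

theorem sum_chi [Fact r.Prime] {m : ℕ} (c : Fin m → ZMod r) :
    ∑ d : Fin m → ZMod r, chi ζ (d ⬝ᵥ c) = if c = 0 then (((r ^ m : ℕ)) : K) else 0 := by
  classical
  split_ifs with h
  · subst h
    simp [O.chi_zero, Finset.card_univ]
  · obtain ⟨i, hi⟩ : ∃ i, c i ≠ 0 := by
      by_contra hall
      push Not at hall
      exact h (funext hall)
    set e : Fin m → ZMod r := Pi.single i 1
    have hsum : ∑ d : Fin m → ZMod r, chi ζ (d ⬝ᵥ c) = chi ζ (c i) * ∑ d : Fin m → ZMod r, chi ζ (d ⬝ᵥ c) := by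
      rw [Finset.mul_sum]
      refine Fintype.sum_equiv (Equiv.subRight e) _ _ fun d => ?_
      show _ = chi ζ (c i) * chi ζ ((d - e) ⬝ᵥ c)
      rw [← O.chi_add, sub_dotProduct, single_dotProduct, one_mul, add_sub_cancel]
    have h2 : (chi ζ (c i) - 1) * ∑ d : Fin m → ZMod r, chi ζ (d ⬝ᵥ c) = 0 := by
      rw [sub_mul, one_mul, ← hsum, sub_self]
    exact (mul_eq_zero.mp h2).resolve_left (sub_ne_zero.mpr fun h1 => hi (O.chi_eq_one.mp h1))

end Ops

namespace Ops.Pre

variable {K E : Type*} [Field K] [Ring E] [Algebra K E] {r : ℕ} {ζ : K} {O : Ops K E r ζ} [Fact r.Prime]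
  {m : ℕ} (P : O.Pre m)

include P

/-- The projection onto the common fixed points of the diagonal side. -/
def proj : E := (((r ^ m : ℕ)) : K)⁻¹ • ∑ d : Fin m → ZMod r, P.D d

theorem card_ne_zero : (((r ^ m : ℕ)) : K) ≠ 0 := by
  rw [Nat.cast_pow]
  exact pow_ne_zero _ O.natCast_ne_zero

theorem proj_comm {F : E} (hF : ∀ d, F * P.D d = P.D d * F) : F * proj P = proj P * F := by
  simp only [proj, mul_smul_comm, smul_mul_assoc, Finset.mul_sum, Finset.sum_mul, hF]

theorem D_proj (d : Fin m → ZMod r) : P.D d * proj P = proj P := by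
  simp only [proj, mul_smul_comm, Finset.mul_sum, ← P.D_add]
  congr 1
  exact Fintype.sum_equiv (Equiv.addLeft d) _ _ fun _ => rfl

theorem proj_D (d : Fin m → ZMod r) : proj P * P.D d = proj P := by
  rw [← proj_comm P (fun d' => P.D_comm d d'), D_proj]

theorem proj_idem : proj P * proj P = proj P := by
  conv_lhs => arg 1; rw [proj]
  rw [smul_mul_assoc, Finset.sum_mul, Finset.sum_congr rfl (fun d _ => D_proj P d), Finset.sum_const,
    Finset.card_univ, Fintype.card_fun, ZMod.card, Fintype.card_fin, ← Nat.cast_smul_eq_nsmul K, smul_smul,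
    inv_mul_cancel₀ (card_ne_zero P), one_smul]

theorem proj_S_proj {c : Fin m → ZMod r} (hc : c ≠ 0) : proj P * P.S c * proj P = 0 := by
  obtain ⟨i, hi⟩ : ∃ i, c i ≠ 0 := by
    by_contra hall
    push Not at hall
    exact hc (funext hall)
  set d : Fin m → ZMod r := Pi.single i 1 with hd
  have h : proj P * P.S c * proj P = chi ζ (c i) • (proj P * P.S c * proj P) := by
    calc proj P * P.S c * proj P = proj P * (P.D d * P.S c) * proj P := by rw [← mul_assoc (proj P), proj_D]
      _ = chi ζ (c i) • (proj P * P.S c * (P.D d * proj P)) := by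
        rw [P.DS, hd, single_dotProduct, one_mul, mul_smul_comm, smul_mul_assoc, ← hd]
        simp only [mul_assoc]
      _ = _ := by rw [D_proj]
  have h2 : (chi ζ (c i) - 1) • (proj P * P.S c * proj P) = 0 := by rw [sub_smul, one_smul, ← h, sub_self]
  exact (smul_eq_zero.mp h2).resolve_left (sub_ne_zero.mpr fun h1 => hi (O.chi_eq_one.mp h1))

theorem sum_proj : ∑ c : Fin m → ZMod r, P.S c * proj P * P.S (-c) = 1 := by
  classical
  have h1 : ∀ c d, P.S c * P.D d * P.S (-c) = chi ζ (d ⬝ᵥ (-c)) • P.D d := by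
    intro c d
    rw [P.SD, smul_mul_assoc, mul_assoc, P.S_mul_neg, mul_one, dotProduct_neg]
  simp only [proj, mul_smul_comm, smul_mul_assoc, Finset.mul_sum, Finset.sum_mul, h1, ← Finset.smul_sum]
  rw [Finset.sum_comm]
  simp only [← Finset.sum_smul]
  have h2 : ∀ d : Fin m → ZMod r, (∑ c : Fin m → ZMod r, chi ζ (d ⬝ᵥ (-c))) =
      if d = 0 then (((r ^ m : ℕ)) : K) else 0 := by
    intro d
    rw [← O.sum_chi d]
    exact Fintype.sum_equiv (Equiv.neg _) _ _ fun c => congrArg (chi ζ) (dotProduct_comm _ _)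
  simp only [h2, ite_smul, zero_smul]
  rw [Finset.sum_ite_eq' Finset.univ, if_pos (Finset.mem_univ _), P.D_zero, smul_smul,
    inv_mul_cancel₀ (card_ne_zero P), one_smul]

theorem D_eq_one [Nontrivial E] {d : Fin m → ZMod r} (hd : P.D d = 1) : d = 0 := by
  funext i
  have h := P.DS d (Pi.single i 1)
  rw [hd, mul_one, one_mul, dotProduct_single, mul_one] at h
  have h1 : (chi ζ (d i) - 1) • P.S (Pi.single i 1) = 0 := by rw [sub_smul, one_smul, ← h, sub_self]
  exact O.chi_eq_one.mp (sub_eq_zero.mp ((smul_eq_zero.mp h1).resolve_right (O.ne_zero (P.S_mem _))))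

theorem S_injective [Nontrivial E] : Function.Injective P.S := fun c c' h => by
  have : P.S (c + -c') = 1 := by rw [P.S_add, h, P.S_mul_neg]
  exact eq_of_sub_eq_zero (by rw [sub_eq_add_neg]; exact P.S_eq_one this)

theorem D_injective [Nontrivial E] : Function.Injective P.D := fun c c' h => by
  have : P.D (c + -c') = 1 := by rw [P.D_add, h, P.D_mul_neg]
  exact eq_of_sub_eq_zero (by rw [sub_eq_add_neg]; exact D_eq_one P this)

end Ops.Pre

section

variable {A V : Type u} {K : Type*} [Group A] [Finite A] [Group.IsSolvable A] [AddCommGroup V] [Finite V]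
  [Nontrivial V] [DistribMulAction A V] [Field K] [Finite K] [Module K V] {r : ℕ} {ζ : K} {m : ℕ}

/-- Three vectors from a frame and its twist. -/
theorem hasTriple_of_frame (D : Semi A V K) (O : Ops K (Module.End K V) r ζ)
    (hmap : ∀ (a : A), ∀ e ∈ O.carrier, D.cj a e ∈ O.carrier) (P : O.Pre m)
    {κ : Type} [Fintype κ] (T : Twist D P κ) (hirr : IsIrr A V)
    (hbig : 2 ≤ Fintype.card κ ∨ m ≠ 0) {n : ℕ} (hn : Nat.card V ≤ n + 1) (IH : ModHyp.{u} n) :
    HasTriple A V := by
  classical
  haveI := Fact.mk O.prime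
  haveI := O.neZero
  let I := Fin m → ZMod r
  set π := P.proj with hπ
  have hremπ : ∀ F, (∀ d, F * P.D d = P.D d * F) → F * π = π * F := fun F hF => Ops.Pre.proj_comm P hF
  -- the twist commutes with the frame
  have hTD : ∀ d, (P.D d * T.η = T.η * P.D d) ∧ ∀ i, P.D d * T.z i = T.z i * P.D d ∧ P.D d * T.z' i = T.z' i * P.D d :=
    fun d => T.comm (P.D d) fun n hn => hn.2.1 d
  have hTS : ∀ c, (P.S c * T.η = T.η * P.S c) ∧ ∀ i, P.S c * T.z i = T.z i * P.S c ∧ P.S c * T.z' i = T.z' i * P.S c :=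
    fun c => T.comm (P.S c) fun n hn => hn.2.2 c
  have cπη : T.η * π = π * T.η := hremπ _ fun d => ((hTD d).1).symm
  have cπz : ∀ i, T.z i * π = π * T.z i := fun i => hremπ _ fun d => (((hTD d).2 i).1).symm
  have cπz' : ∀ i, T.z' i * π = π * T.z' i := fun i => hremπ _ fun d => (((hTD d).2 i).2).symm
  -- move everything of the twist to the outside of the projection
  have hsand : ∀ (c : I) (i j : κ) (F : Module.End K V), (∀ d, F * P.D d = P.D d * F) →
      π * T.η * (T.z' i * (P.S c * F) * T.z j) * (π * T.η) =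
        (π * P.S c * π) * (T.η * (T.z' i * F * T.z j) * T.η) := by
    intro c i j F hF
    calc π * T.η * (T.z' i * (P.S c * F) * T.z j) * (π * T.η)
        = π * (T.η * T.z' i) * P.S c * (F * T.z j * π) * T.η := by simp only [mul_assoc]
      _ = π * (P.S c * (T.η * T.z' i)) * (π * (F * T.z j)) * T.η := by
          rw [show F * T.z j * π = π * (F * T.z j) by
            rw [mul_assoc, cπz, ← mul_assoc, hremπ F hF, mul_assoc]]
          simp only [mul_assoc]
          rw [← mul_assoc (P.S c) T.η, (hTS c).1, mul_assoc T.η, ← mul_assoc (P.S c) (T.z' i), ((hTS c).2 i).2,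
            mul_assoc (T.z' i)]
      _ = π * P.S c * ((T.η * T.z' i) * π) * (F * T.z j * T.η) := by simp only [mul_assoc]
      _ = π * P.S c * (π * (T.η * T.z' i)) * (F * T.z j * T.η) := by
          rw [show (T.η * T.z' i) * π = π * (T.η * T.z' i) by rw [mul_assoc, cπz', ← mul_assoc, cπη, mul_assoc]]
      _ = _ := by simp only [mul_assoc]
  have hidemP : π * T.η * (π * T.η) = π * T.η := by
    rw [mul_assoc, ← mul_assoc T.η, cπη, mul_assoc, T.idem, ← mul_assoc, Ops.Pre.proj_idem P]
  let S : Split O.carrier (I × κ) :=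
    { P := π * T.η
      s := fun p => P.S p.1 * T.z p.2
      s' := fun p => T.z' p.2 * P.S (-p.1)
      j₀ := (0, T.k₀)
      s_zero := by rw [P.S_zero, T.z_zero, mul_one]
      hs := fun p => by rw [mul_assoc, ← mul_assoc (T.z p.2), T.zz', one_mul, P.S_mul_neg]
      hs' := fun p => by rw [mul_assoc, ← mul_assoc (P.S _), P.S_neg_mul, one_mul, T.z'z]
      idem := hidemP
      orth := fun p q hpq => by
        rw [show T.z' p.2 * P.S (-p.1) * (P.S q.1 * T.z q.2) = T.z' p.2 * (P.S (-p.1 + q.1) * 1) * T.z q.2 by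
          rw [mul_one, P.S_add]; simp only [mul_assoc], hsand _ _ _ _ (fun d => by rw [one_mul, mul_one]),
          mul_one]
        by_cases hc : -p.1 + q.1 = 0
        · have : p.2 ≠ q.2 := fun e => hpq (Prod.ext (neg_add_eq_zero.mp hc) e)
          rw [T.orth _ _ this, mul_zero]
        · rw [Ops.Pre.proj_S_proj P hc, zero_mul]
      sum_eq := by
        rw [Fintype.sum_prod_type]
        calc ∑ c : I, ∑ i, P.S c * T.z i * (π * T.η) * (T.z' i * P.S (-c))
            = ∑ c : I, P.S c * π * (∑ i, T.z i * T.η * T.z' i) * P.S (-c) := by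
              refine Finset.sum_congr rfl fun c _ => ?_
              rw [Finset.mul_sum, Finset.sum_mul]
              refine Finset.sum_congr rfl fun i _ => ?_
              rw [show P.S c * T.z i * (π * T.η) = P.S c * (T.z i * π) * T.η by simp only [mul_assoc], cπz]
              simp only [mul_assoc]
          _ = 1 := by rw [T.sum_eq]; simp only [mul_one]; exact Ops.Pre.sum_proj P
      entries := fun e he p q => by
        obtain ⟨c, d, n, hn, rfl⟩ := P.decomp he
        obtain ⟨k, hk⟩ := T.entries n hn p.2 q.2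
        refine ⟨(if -p.1 + c + q.1 = 0 then k * chi ζ (d ⬝ᵥ q.1) else 0), ?_⟩
        have e1 : T.z' p.2 * P.S (-p.1) * (P.S c * P.D d * n) * (P.S q.1 * T.z q.2) =
            chi ζ (d ⬝ᵥ q.1) • (T.z' p.2 * (P.S (-p.1 + c + q.1) * (P.D d * n)) * T.z q.2) := by
          rw [P.S_add, P.S_add]
          calc T.z' p.2 * P.S (-p.1) * (P.S c * P.D d * n) * (P.S q.1 * T.z q.2)
              = T.z' p.2 * (P.S (-p.1) * P.S c) * (P.D d * (n * P.S q.1)) * T.z q.2 := by simp only [mul_assoc]
            _ = T.z' p.2 * (P.S (-p.1) * P.S c) * ((P.D d * P.S q.1) * n) * T.z q.2 := by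
                rw [← hn.2.2, mul_assoc (P.D d)]
            _ = _ := by
                rw [P.DS]
                simp only [smul_mul_assoc, mul_smul_comm, mul_assoc]
        rw [e1, mul_smul_comm, smul_mul_assoc, hsand _ _ _ _ (fun d' => by
          rw [mul_assoc, ← hn.2.1, ← mul_assoc, P.D_comm, mul_assoc])]
        split_ifs with h0
        · rw [h0, P.S_zero, mul_one, Ops.Pre.proj_idem P]
          rw [show T.z' p.2 * (P.D d * n) * T.z q.2 = P.D d * (T.z' p.2 * n * T.z q.2) by
            rw [← mul_assoc (T.z' p.2), ← ((hTD d).2 p.2).2]; simp only [mul_assoc],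
            show T.η * (P.D d * (T.z' p.2 * n * T.z q.2)) * T.η =
              P.D d * (T.η * (T.z' p.2 * n * T.z q.2) * T.η) by
            rw [← mul_assoc T.η, ← (hTD d).1]; simp only [mul_assoc],
            hk, ← mul_assoc, Ops.Pre.proj_D P, mul_smul_comm, smul_smul, mul_comm k]
        · rw [Ops.Pre.proj_S_proj P h0, zero_mul, smul_zero, zero_smul]
      gen := fun F hF => by
        obtain ⟨hη, hz⟩ := T.comm F fun n hn => hF n hn.1
        refine ⟨?_, fun p => ?_⟩
        · rw [← mul_assoc, hremπ F fun d => hF _ (P.D_mem d), mul_assoc, hη, ← mul_assoc]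
        · rw [← mul_assoc, hF _ (P.S_mem p.1), mul_assoc, (hz p.2).1, ← mul_assoc] }
  have hK : 3 ≤ Nat.card K := by
    haveI := Fintype.ofFinite K
    have h0 : ζ ≠ 0 := O.root.ne_zero O.prime.ne_zero
    have h1 : ζ ≠ 1 := O.root.ne_one O.prime.one_lt
    rw [Nat.card_eq_fintype_card]
    refine le_trans (le_of_eq (Finset.card_eq_three.mpr ⟨0, 1, ζ, zero_ne_one, h0.symm, h1.symm, rfl⟩).symm)
      (Finset.card_le_univ _)
  have hJ : 2 ≤ Fintype.card (I × κ) := by
    rw [Fintype.card_prod, show Fintype.card I = r ^ m by rw [Fintype.card_fun, ZMod.card, Fintype.card_fin]]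
    rcases hbig with h | h
    · exact le_trans h (Nat.le_mul_of_pos_left _ (pow_pos O.prime.pos m))
    · exact le_trans (le_trans O.prime.two_le (Nat.le_self_pow h r))
        (Nat.le_mul_of_pos_right _ (Fintype.card_pos_iff.mpr ⟨T.k₀⟩))
  obtain ⟨u, hu, hu0, hu1, hu10, hucorner⟩ := exists_corner_triple D S hmap hirr hJ hK hn IH
  have hπu : ∀ k, π (u k) = u k := by
    intro k
    conv_rhs => rw [← hu k]
    conv_lhs => rw [← hu k]
    show (π * (π * T.η)) (u k) = (π * T.η) (u k)
    rw [← mul_assoc, Ops.Pre.proj_idem P]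
  have hηu : ∀ k, T.η (u k) = u k := by
    intro k
    conv_rhs => rw [← hu k]
    conv_lhs => rw [← hu k]
    show (T.η * (π * T.η)) (u k) = (π * T.η) (u k)
    rw [← mul_assoc, cπη, mul_assoc, T.idem]
  have hπz : ∀ i x, π x = x → π (T.z i x) = T.z i x := by
    intro i x hx
    have := DFunLike.congr_fun (cπz i) x
    rw [Module.End.mul_apply, Module.End.mul_apply, hx] at this
    exact this.symm
  have hzinj : ∀ i, Function.Injective (T.z i) := fun i x y h => by
    have := congrArg (T.z' i) h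
    rw [← Module.End.mul_apply, ← Module.End.mul_apply, T.z'z] at this
    simpa using this
  have hηzl : T.l ≠ T.k₀ → ∀ x, T.η x = x → T.η (T.z T.l x) = 0 := by
    intro hl x hx
    have h := DFunLike.congr_fun (T.orth T.k₀ T.l (Ne.symm hl)) x
    rw [show T.z' T.k₀ = 1 by have := T.z'z T.k₀; rwa [T.z_zero, mul_one] at this, one_mul] at h
    simpa [Module.End.mul_apply, hx] using h
  -- the second and third vectors at the origin
  let i₂ : κ := T.l
  let x₂ : V := if T.l = T.k₀ then u 1 else u 0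
  let a₂ : V := T.z i₂ x₂
  let a₃ : V := if T.l = T.k₀ then u 2 else u 1 + T.z T.l (u 2)
  have hx₂ : T.η x₂ = x₂ ∧ x₂ ≠ 0 := by
    dsimp only [x₂]
    split_ifs
    · exact ⟨hηu 1, hu1⟩
    · exact ⟨hηu 0, hu0⟩
  have hπx₂ : π x₂ = x₂ := by
    dsimp only [x₂, a₃]
    split_ifs
    exacts [hπu 1, hπu 0]
  have ha₂0 : a₂ ≠ 0 := fun h => hx₂.2 (hzinj i₂ (h.trans (map_zero _).symm))
  have hπa₂ : π a₂ = a₂ := hπz _ _ hπx₂
  have ha₂u : a₂ ≠ u 0 := by
    by_cases hl : T.l = T.k₀
    · show T.z T.l x₂ ≠ u 0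
      rw [hl, T.z_zero, show x₂ = u 1 from if_pos hl]
      exact hu10
    · intro h
      have e := congrArg T.η h
      rw [show a₂ = T.z T.l (u 0) by show T.z T.l x₂ = _; rw [show x₂ = u 0 from if_neg hl], hηzl hl _ (hηu 0),
        hηu 0] at e
      exact hu0 e.symm
  have hπa₃ : π a₃ = a₃ := by
    dsimp only [x₂, a₃]
    split_ifs
    · exact hπu 2
    · rw [map_add, hπu 1, hπz _ _ (hπu 2)]
  let v₁ : V := u 0
  let v₂ : V := ∑ b : I, P.S b a₂
  -- coordinates
  have hS0 : ∀ x : V, P.S 0 x = x := fun x => by rw [P.S_zero]; rfl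
  have hcoord : ∀ (f : I → V), (∀ b, π (f b) = f b) → ∀ b, π (P.S (-b) (∑ c : I, P.S c (f c))) = f b := by
    intro f hf b
    rw [map_sum, map_sum, Finset.sum_eq_single b]
    · rw [← Module.End.mul_apply (P.S (-b)), P.S_neg_mul, Module.End.one_apply, hf]
    · intro c _ hc
      rw [← hf c, ← Module.End.mul_apply (P.S (-b)), ← P.S_add, ← Module.End.mul_apply, ← Module.End.mul_apply,
        Ops.Pre.proj_S_proj P (fun e => hc (neg_add_eq_zero.mp e).symm), LinearMap.zero_apply]
    · exact fun h => absurd (Finset.mem_univ _) h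
  -- the elements fixing the first two vectors
  let G : Subgroup A := MulAction.stabilizer A v₁ ⊓ MulAction.stabilizer A v₂
  have hDmap : ∀ g ∈ G, ∀ d, ∃ d', D.cj g (P.D d) = P.D d' := by
    intro g hg d
    have hfix : D.cj g (P.D d) (u 0) = u 0 := by
      have hg1 : g • u 0 = u 0 := hg.1
      conv_lhs => rw [← hg1]
      rw [Semi.cj_smul_vec, show P.D d (u 0) = u 0 by
        rw [← hπu 0, ← Module.End.mul_apply, Ops.Pre.D_proj P], hg1]
    obtain ⟨c, d', n, hn, he⟩ := P.decomp (hmap g _ (P.D_mem d))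
    have hnu : π (n (u 0)) = n (u 0) := by
      have := DFunLike.congr_fun (hremπ n fun d => (hn.2.1 d).symm) (u 0)
      rw [Module.End.mul_apply, Module.End.mul_apply, hπu] at this
      exact this.symm
    have hDn : P.D d' (n (u 0)) = n (u 0) := by
      rw [← hnu, ← Module.End.mul_apply, Ops.Pre.D_proj P]
    rw [he, Module.End.mul_apply, Module.End.mul_apply, hDn] at hfix
    have hc : c = 0 := by
      by_contra hc
      refine hu0 ?_
      rw [← hπu 0, ← hfix, ← hnu, ← Module.End.mul_apply, ← Module.End.mul_apply, Ops.Pre.proj_S_proj P hc,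
        LinearMap.zero_apply]
    subst hc
    rw [hS0] at hfix
    obtain ⟨k, rfl⟩ := T.line n hn T.k₀ (u 0) (hηu 0) hu0 ⟨1, by
      rw [T.z_zero, Module.End.one_apply, hfix, one_smul]⟩
    rw [LinearMap.smul_apply, Module.End.one_apply] at hfix
    obtain rfl : k = 1 := smul_left_injective K hu0 (hfix.trans (one_smul K (u 0)).symm)
    exact ⟨d', by rw [he, P.S_zero, one_smul, one_mul, mul_one]⟩
  have hSmap : ∀ g ∈ G, ∀ c, ∃ c', D.cj g (P.S c) = P.S c' := by
    intro g hg c
    have hS : P.S c v₂ = v₂ := by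
      show P.S c (∑ b : I, P.S b a₂) = _
      rw [map_sum]
      exact Fintype.sum_equiv (Equiv.addLeft c) _ _ fun b => by
        rw [← Module.End.mul_apply, ← P.S_add]; rfl
    have hfix : D.cj g (P.S c) v₂ = v₂ := by
      have hg2 : g • v₂ = v₂ := hg.2
      conv_lhs => rw [← hg2]
      rw [Semi.cj_smul_vec, hS, hg2]
    obtain ⟨c', d', n, hn, he⟩ := P.decomp (hmap g _ (P.S_mem c))
    have hna : π (n a₂) = n a₂ := by
      have := DFunLike.congr_fun (hremπ n fun d => (hn.2.1 d).symm) a₂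
      rw [Module.End.mul_apply, Module.End.mul_apply, hπa₂] at this
      exact this.symm
    have hexp : ∀ b, (P.S c' * P.D d' * n) (P.S b a₂) = P.S (c' + b) (chi ζ (d' ⬝ᵥ b) • n a₂) := by
      intro b
      rw [map_smul]
      have : P.S c' * P.D d' * n * P.S b = chi ζ (d' ⬝ᵥ b) • (P.S (c' + b) * n * P.D d') := by
        rw [P.S_add, mul_assoc, ← hn.2.2, ← mul_assoc, mul_assoc (P.S c'), P.DS, mul_smul_comm, smul_mul_assoc]
        congr 1
        simp only [mul_assoc, hn.2.1 d']
      have hD : P.D d' a₂ = a₂ := by rw [← hπa₂, ← Module.End.mul_apply, Ops.Pre.D_proj P]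
      have h2 := DFunLike.congr_fun this a₂
      simp only [Module.End.mul_apply, LinearMap.smul_apply, hD] at h2 ⊢
      exact h2
    have hv₂ : v₂ = ∑ b : I, P.S b (chi ζ (d' ⬝ᵥ (b - c')) • n a₂) := by
      conv_lhs => rw [← hfix, he]
      show (P.S c' * P.D d' * n) (∑ b : I, P.S b a₂) = _
      rw [map_sum]
      refine Fintype.sum_equiv (Equiv.addLeft c') _ _ fun b => ?_
      rw [hexp]
      show _ = P.S (c' + b) (chi ζ (d' ⬝ᵥ (c' + b - c')) • n a₂)
      rw [add_sub_cancel_left]
    have hk : ∀ b : I, chi ζ (d' ⬝ᵥ b) • n a₂ = a₂ := by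
      intro b
      have h := hcoord (fun b' => chi ζ (d' ⬝ᵥ (b' - c')) • n a₂) (fun b' => by rw [map_smul, hna]) (b + c')
      rw [← hv₂, hcoord (fun _ => a₂) (fun _ => hπa₂) (b + c'), add_sub_cancel_right] at h
      exact h.symm
    have hna₂ : n a₂ = a₂ := by
      have := hk 0
      rwa [dotProduct_zero, O.chi_zero, one_smul] at this
    obtain ⟨k, rfl⟩ := T.line n hn i₂ x₂ hx₂.1 hx₂.2 ⟨1, by
      rw [one_smul]; exact hna₂⟩
    rw [LinearMap.smul_apply, Module.End.one_apply] at hna₂
    obtain rfl : k = 1 := smul_left_injective K ha₂0 (hna₂.trans (one_smul K a₂).symm)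
    have hd : d' = 0 := by
      funext i
      have := hk (Pi.single i 1)
      rw [dotProduct_single, mul_one, one_smul, Module.End.one_apply] at this
      exact O.chi_eq_one.mp (smul_left_injective K ha₂0 (this.trans (one_smul K a₂).symm))
    exact ⟨c', by rw [he, hd, P.D_zero, one_smul, mul_one, mul_one]⟩
  choose δ hδ using fun (g : G) d => hDmap g g.2 d
  choose τ hτ using fun (g : G) c => hSmap g g.2 c
  have hSinj := Ops.Pre.S_injective P
  have hτmul : ∀ (g g' : G) c, τ (g * g') c = τ g (τ g' c) := fun g g' c => hSinj (by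
    rw [← hτ, ← hτ, ← hτ, Semi.cj_cj]; rfl)
  have hτone : ∀ c, τ 1 c = c := fun c => hSinj (by rw [← hτ, Subgroup.coe_one, Semi.cj_id])
  have hτadd : ∀ (g : G) c c', τ g (c + c') = τ g c + τ g c' := fun g c c' => hSinj (by
    rw [P.S_add, ← hτ, ← hτ, ← hτ, P.S_add, Semi.cj_mul])
  let τl : G → (I →ₗ[ZMod r] I) := fun g => (AddMonoidHom.mk' (τ g) (hτadd g)).toZModLinearMap r
  let ρ : G →* (I ≃ₗ[ZMod r] I) := MonoidHom.mk'
    (fun g => LinearEquiv.ofLinear (τl g) (τl g⁻¹)
      (LinearMap.ext fun c => by show τ g (τ g⁻¹ c) = c; rw [← hτmul, mul_inv_cancel, hτone])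
      (LinearMap.ext fun c => by show τ g⁻¹ (τ g c) = c; rw [← hτmul, inv_mul_cancel, hτone]))
    (fun g g' => LinearEquiv.ext fun c => hτmul g g' c)
  obtain ⟨col, hcol⟩ := exists_pattern ρ
  let val : Fin 3 → V := ![0, u 0, a₂]
  have hvalinj : Function.Injective val := by
    intro i j h
    fin_cases i <;> fin_cases j <;> simp [val] at h ⊢
    all_goals first
      | exact hu0 h | exact hu0 h.symm | exact ha₂0 h | exact ha₂0 h.symm | exact ha₂u h | exact ha₂u h.symm
  let f₃ : I → V := fun c => if c = 0 then a₃ else val (col c)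
  have hf₃ : ∀ c, π (f₃ c) = f₃ c := by
    intro c
    dsimp only [f₃]
    split_ifs
    · exact hπa₃
    · generalize col c = k
      fin_cases k <;> simp [val, hπu, hπa₂]
  refine ⟨![v₁, v₂, ∑ c : I, P.S c (f₃ c)], fun g hg x => ?_⟩
  have hg1 : g • v₁ = v₁ := hg 0
  have hg2 : g • v₂ = v₂ := hg 1
  have hg3 : g • (∑ c : I, P.S c (f₃ c)) = ∑ c : I, P.S c (f₃ c) := hg 2
  let gG : G := ⟨g, hg1, hg2⟩
  have hδinj : Function.Injective (δ gG) := fun d d' h => Ops.Pre.D_injective P (by
    have := congrArg (D.cj g⁻¹) (show D.cj g (P.D d) = D.cj g (P.D d') by rw [hδ gG, hδ gG, h])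
    rwa [Semi.cj_cj, Semi.cj_cj, inv_mul_cancel, Semi.cj_id, Semi.cj_id] at this)
  have hδbij : Function.Bijective (δ gG) := ⟨hδinj, Finite.injective_iff_surjective.mp hδinj⟩
  have hgπ : D.cj g π = π := by
    show D.cj g ((((r ^ m : ℕ)) : K)⁻¹ • ∑ d : I, P.D d) = (((r ^ m : ℕ)) : K)⁻¹ • ∑ d : I, P.D d
    rw [Semi.cj_smul, map_inv₀, map_natCast, Semi.cj_sum]
    congr 1
    exact Fintype.sum_equiv (Equiv.ofBijective _ hδbij) _ _ fun d => hδ gG d
  have hgS : ∀ c y, g • P.S c y = P.S (τ gG c) (g • y) := fun c y => by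
    rw [← hτ gG, Semi.cj_smul_vec]
  have hgπv : ∀ y, π y = y → π (g • y) = g • y := fun y hy => by
    conv_lhs => rw [← hgπ]
    rw [Semi.cj_smul_vec, hy]
  have hτ0 : τ gG 0 = 0 := hSinj (by rw [← hτ, P.S_zero, Semi.cj_one])
  have hτbij : Function.Bijective (τ gG) := (ρ gG).bijective
  have hcoord2 : ∀ (f : I → V), (∀ b, π (f b) = f b) → g • (∑ c : I, P.S c (f c)) = ∑ c : I, P.S c (f c) →
      ∀ c, f (τ gG c) = g • f c := by
    intro f hf hfix c
    have e : g • (∑ c : I, P.S c (f c)) = ∑ b : I, P.S b (g • f ((Equiv.ofBijective _ hτbij).symm b)) := by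
      rw [Finset.smul_sum]
      refine Fintype.sum_equiv (Equiv.ofBijective _ hτbij) _ _ fun c => ?_
      rw [hgS, Equiv.symm_apply_apply]
      rfl
    have h := hcoord f hf (τ gG c)
    rw [← hfix, e, hcoord _ (fun b => hgπv _ (hf _)) (τ gG c)] at h
    rw [← h, show (Equiv.ofBijective _ hτbij).symm (τ gG c) = c from Equiv.symm_apply_apply _ c]
  have hga₂ : g • a₂ = a₂ := ((hcoord2 (fun _ => a₂) (fun _ => hπa₂) hg2) 0).symm
  have hga₃ : g • a₃ = a₃ := by
    have := hcoord2 f₃ hf₃ hg3 0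
    simp only [f₃, hτ0, if_pos] at this
    exact this.symm
  have hval : ∀ k, g • val k = val k := by
    intro k
    fin_cases k
    · exact smul_zero g
    · exact hg1
    · exact hga₂
  have hρ : ρ gG = 1 := hcol gG fun c hc => by
    have := hcoord2 f₃ hf₃ hg3 c
    have hc' : τ gG c ≠ 0 := fun h => hc (hτbij.1 (h.trans hτ0.symm))
    simp only [f₃, if_neg hc, if_neg hc', hval] at this
    exact hvalinj this
  have hgS1 : ∀ c, D.cj g (P.S c) = P.S c := fun c => by
    rw [hτ gG, show τ gG c = c from DFunLike.congr_fun hρ c]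
  have hrem : ∀ n, P.Rem n → P.Rem (D.cj g n) := by
    intro n hn
    refine ⟨hmap g n hn.1, fun d => ?_, fun c => ?_⟩
    · obtain ⟨d', rfl⟩ := hδbij.2 d
      rw [← hδ gG, ← Semi.cj_mul, ← Semi.cj_mul, hn.2.1]
    · rw [← hgS1, ← Semi.cj_mul, ← Semi.cj_mul, hn.2.2]
  -- the twist and the corner
  obtain ⟨hgη, hgz, hgu⟩ : D.cj g T.η = T.η ∧ (∀ i, D.cj g (T.z i) = T.z i) ∧ ∀ k, g • u k = u k := by
    by_cases hl : T.l = T.k₀
    · have hall := T.single hl
      have hz : ∀ i, T.z i = 1 := fun i => by rw [hall i, T.z_zero]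
      have hz' : ∀ i, T.z' i = 1 := fun i => by have := T.z'z i; rwa [hz, mul_one] at this
      have hη1 : T.η = 1 := by
        have := T.sum_eq
        rwa [Finset.sum_eq_single T.k₀ (fun i _ hi => absurd (hall i) hi) (fun h => absurd (Finset.mem_univ _) h),
          hz, hz', one_mul, mul_one] at this
      refine ⟨by rw [hη1, Semi.cj_one], fun i => by rw [hz, Semi.cj_one], fun k => ?_⟩
      fin_cases k
      · exact hg1
      · have := hga₂
        simp only [a₂, x₂, i₂, hz, if_pos hl, Module.End.one_apply] at this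
        exact this
      · have := hga₃
        simp only [a₃, if_pos hl] at this
        exact this
    · have ha₂ : a₂ = T.z T.l (u 0) := by
        show T.z T.l x₂ = _
        rw [show x₂ = u 0 from if_neg hl]
      rw [ha₂] at hga₂
      obtain ⟨hη, hz⟩ := T.rigid g (u 0) (hηu 0) hu0 hl hrem hg1 hga₂
      have h1 : g • u 1 = u 1 := by
        have e : T.η a₃ = u 1 := by
          dsimp only [a₃]
          rw [if_neg hl, map_add, hηu 1, hηzl hl _ (hηu 2), add_zero]
        rw [← e]
        conv_rhs => rw [← hga₃, ← hη]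
        rw [Semi.cj_smul_vec]
      refine ⟨hη, hz, fun k => ?_⟩
      fin_cases k
      · exact hg1
      · exact h1
      · have := hga₃
        simp only [a₃, if_neg hl, smul_add, h1, add_right_inj] at this
        have e : T.z T.l (g • u 2) = g • T.z T.l (u 2) := by
          conv_lhs => rw [← hz T.l]
          rw [Semi.cj_smul_vec]
        exact hzinj T.l (e.trans this)
  have hgP : D.cj g (π * T.η) = π * T.η := by rw [Semi.cj_mul, hgπ, hgη]
  have hfixU := hucorner g hgP hgu
  rw [S.decomp x, Finset.smul_sum]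
  refine Finset.sum_congr rfl fun p _ => ?_
  have hs : D.cj g (P.S p.1 * T.z p.2) = P.S p.1 * T.z p.2 := by rw [Semi.cj_mul, hgS1, hgz]
  show g • (P.S p.1 * T.z p.2) (S.P (S.s' p x)) = (P.S p.1 * T.z p.2) (S.P (S.s' p x))
  rw [← Semi.cj_smul_vec D, hs, hfixU _ (DFunLike.congr_fun S.idem _)]

/-- Three vectors from a nonabelian set of operators. -/
theorem hasTriple_of_ops (D : Semi A V K) (O : Ops K (Module.End K V) r ζ)
    (hmap : ∀ (a : A), ∀ e ∈ O.carrier, D.cj a e ∈ O.carrier)
    (hna : ∃ e ∈ O.carrier, ∀ l : K, e ≠ l • 1) (hirr : IsIrr A V) {n : ℕ} (hn : Nat.card V ≤ n + 1)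
    (IH : ModHyp.{u} n) : HasTriple A V := by
  haveI := O.neZero
  haveI : Finite (Module.End K V) :=
    Finite.of_injective (fun f : Module.End K V => (f : V → V)) DFunLike.coe_injective
  obtain ⟨m, P, h | ⟨-, h2, hneg, X, Y, hX, hY, hX2, hY2, hXY, hall⟩⟩ := O.exists_frame
  · refine hasTriple_of_frame D O hmap P (Twist.trivial D P h) hirr (Or.inr fun hm => ?_) hn IH
    obtain ⟨e, he, hel⟩ := hna
    obtain ⟨c, d, n', hn', rfl⟩ := P.decomp he
    obtain ⟨l, rfl⟩ := h n' hn'
    subst hm
    rw [Subsingleton.elim c 0, Subsingleton.elim d 0, P.S_zero, P.D_zero, one_mul, one_mul] at hel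
    exact hel l rfl
  · obtain ⟨κ, _, hκ, ⟨T⟩⟩ := exists_quaternion_twist D P h2 hneg X Y hX hY hX2 hY2 hXY hall
    exact hasTriple_of_frame D O hmap P T hirr (Or.inl hκ.ge) hn IH

end

end Cfsg.Agent.BaseThree
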