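import Cfsg.Agent.Lib.Grp.BaseThree.Defs
import Cfsg.Agent.Lib.Grp.BaseTwo.Gluck

/-!
# Five colours distinguish a solvable permutation group

Five colourings with five colours, in different orbits and with trivial stabiliser, given triples
for smaller linear groups.
-/

set_option autoImplicit false
set_option linter.style.haveILetI false

universe u

namespace Cfsg.Agent.BaseThree

open BaseTwo (IsInv IsCR IsIrr isCR_of_isIrr conjAdd)
open scoped Pointwise

/-- Five colourings in different orbits, each with stabiliser acting trivially. -/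
def FiveColour (G Ω : Type*) [Group G] [MulAction G Ω] : Prop :=
  ∃ f : Fin 5 → Ω → Fin 5, ∀ i j (g : G), (∀ x, f j (g • x) = f i x) → i = j ∧ ∀ x : Ω, g • x = x

/-- A small set, or one leaving two points, whose pointwise stabiliser is trivial gives five
colourings. -/
theorem fiveColour_of_base {G Ω : Type*} [Group G] [MulAction G Ω] [Fintype Ω] [Nonempty Ω]
    [DecidableEq Ω] (B : Finset Ω) (hB : B.card ≤ 4)
    (hsize : B.card + 2 ≤ Fintype.card Ω ∨ B = Finset.univ)
    (hbase : ∀ g : G, (∀ b ∈ B, g • b = b) → ∀ x : Ω, g • x = x) : FiveColour G Ω := by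
  classical
  let e : B ≃ Fin B.card := B.equivFin
  let c : ℕ → Fin 5 := fun k => ⟨k % 5, Nat.mod_lt _ (by norm_num)⟩
  -- colour of a base point
  let f : Fin 5 → Ω → Fin 5 := fun i x =>
    if h : x ∈ B then i + 1 + c (e ⟨x, h⟩).val else i
  have hne : ∀ (i : Fin 5) (x : Ω) (h : x ∈ B), f i x ≠ i := by
    intro i x h he
    simp only [f, dif_pos h] at he
    have h2 : (e ⟨x, h⟩).val < 4 := lt_of_lt_of_le (e ⟨x, h⟩).isLt hB
    revert he
    generalize hk : (e ⟨x, h⟩).val = k at h2
    interval_cases k <;> revert i <;> decide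
  have hinj : ∀ (i : Fin 5) (x y : Ω) (hx : x ∈ B) (hy : y ∈ B), f i x = f i y → x = y := by
    intro i x y hx hy he
    simp only [f, dif_pos hx, dif_pos hy, add_right_inj, c, Fin.mk.injEq] at he
    have h1 : (e ⟨x, hx⟩).val < 5 := lt_of_lt_of_le (e ⟨x, hx⟩).isLt (by omega)
    have h2 : (e ⟨y, hy⟩).val < 5 := lt_of_lt_of_le (e ⟨y, hy⟩).isLt (by omega)
    rw [Nat.mod_eq_of_lt h1, Nat.mod_eq_of_lt h2] at he
    exact congrArg Subtype.val (e.injective (Fin.ext he))
  have hout : ∀ (i : Fin 5) (x : Ω), x ∉ B → f i x = i := fun i x h => dif_neg h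
  refine ⟨f, fun i j g hg => ?_⟩
  have hij : i = j := by
    rcases hsize with hsize | huniv
    · -- the colour outside the base occurs twice
      obtain ⟨x, hx, y, hy, hxy⟩ : ∃ x ∈ Finset.univ \ B, ∃ y ∈ Finset.univ \ B, x ≠ y := by
        refine Finset.one_lt_card.mp ?_
        rw [Finset.card_sdiff_of_subset (Finset.subset_univ B), Finset.card_univ]
        omega
      rw [Finset.mem_sdiff] at hx hy
      have e1 := (hg x).trans (hout i x hx.2)
      have e2 := (hg y).trans (hout i y hy.2)
      by_contra hne'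
      have m1 : g • x ∈ B := by
        by_contra h
        rw [hout j _ h] at e1
        exact hne' e1.symm
      have m2 : g • y ∈ B := by
        by_contra h
        rw [hout j _ h] at e2
        exact hne' e2.symm
      exact hxy (MulAction.injective g (hinj j _ _ m1 m2 (e1.trans e2.symm)))
    · -- everything is in the base: the set of colours used is an interval
      have himg : Finset.univ.image (f j) = Finset.univ.image (f i) := by
        rw [← funext (fun x => (hg x)), show (fun x => f j (g • x)) = f j ∘ (fun x => g • x) from rfl,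
          ← Finset.image_image, Finset.image_univ_of_surjective (MulAction.surjective g)]
      have hset : ∀ i, Finset.univ.image (f i) =
          (Finset.range B.card).image (fun k => i + 1 + c k) := by
        intro i
        ext z
        simp only [Finset.mem_image, Finset.mem_univ, true_and, Finset.mem_range]
        constructor
        · rintro ⟨x, rfl⟩
          have hx : x ∈ B := huniv ▸ Finset.mem_univ x
          exact ⟨(e ⟨x, hx⟩).val, (e ⟨x, hx⟩).isLt, by simp [f, hx]⟩
        · rintro ⟨k, hk, rfl⟩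
          refine ⟨(e.symm ⟨k, hk⟩).1, ?_⟩
          simp [f, (e.symm ⟨k, hk⟩).2]
      rw [hset, hset] at himg
      have hpos : 0 < B.card := by
        rw [huniv, Finset.card_univ]; exact Fintype.card_pos
      revert himg
      generalize B.card = k at hB hpos
      clear hg
      interval_cases k <;> revert i j <;> decide
  subst hij
  refine ⟨rfl, hbase g fun b hb => ?_⟩
  have h1 := hg b
  refine (hinj i _ _ ?_ hb h1)
  by_contra h
  rw [hout i _ h] at h1
  exact hne i b hb h1.symm

/-- The primitive case. -/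
theorem fiveColour_primitive {G Ω : Type u} [Group G] [Finite G] [MulAction G Ω] [FaithfulSMul G Ω]
    [Finite Ω] [Nontrivial Ω] [Group.IsSolvable G] (hprim : MulAction.IsPreprimitive G Ω)
    {n₀ : ℕ} (IH : ModHyp.{u} n₀) (hn₀ : Nat.card Ω ≤ n₀) : FiveColour G Ω := by
  classical
  haveI := Fintype.ofFinite Ω
  haveI := hprim.toIsPretransitive
  haveI : Nontrivial G := by
    by_contra h
    rw [not_nontrivial_iff_subsingleton] at h
    obtain ⟨x, y, hxy⟩ := exists_pair_ne Ω
    obtain ⟨g, hg⟩ := MulAction.exists_smul_eq G x y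
    rw [Subsingleton.elim g 1, one_smul] at hg
    exact hxy hg
  obtain ⟨N, hNn, hN0, -, hNmin⟩ := Grp.exists_minimal_normal_le (G := G) (N := ⊤) (top_ne_bot)
  haveI := hNn
  obtain ⟨hNab, r, hr, hNr⟩ := Grp.minimal_normal_solvable (inferInstance) hN0 hNmin
  haveI := hNab
  letI : CommGroup N := { (inferInstance : Group N) with mul_comm := mul_comm' }
  obtain ⟨a⟩ := (inferInstance : Nonempty Ω)
  haveI : MulAction.IsPretransitive N Ω := by
    refine MulAction.IsQuasiPreprimitive.isPretransitive_of_normal fun h => hN0 ?_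
    rw [eq_bot_iff]
    intro g hg
    refine Subgroup.mem_bot.mpr (eq_of_smul_eq_smul (α := Ω) fun x => ?_)
    have hx : x ∈ MulAction.fixedPoints N Ω := h ▸ Set.mem_univ x
    rw [one_smul]
    exact hx ⟨g, hg⟩
  set H := MulAction.stabilizer G a with hHdef
  letI := conjAdd H N
  have hirr : IsIrr H (Additive N) := by
    intro X hX
    let X' : Subgroup G := X.toSubgroup'.map N.subtype
    have hXn : X'.Normal := by
      refine ⟨fun y hy g => ?_⟩
      obtain ⟨x, hx, rfl⟩ := hy
      obtain ⟨m, hm⟩ := MulAction.exists_smul_eq N a (g • a)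
      have hh : (m : G)⁻¹ * g ∈ H := by
        rw [hHdef, MulAction.mem_stabilizer_iff, mul_smul, inv_smul_eq_iff]
        exact hm.symm
      refine ⟨MulAut.conjNormal ((m : G)⁻¹ * g) x, hX ⟨_, hh⟩ (Additive.ofMul x) hx, ?_⟩
      set h := (m : G)⁻¹ * g with hhdef
      have hgm : g = (m : G) * h := by rw [hhdef, mul_inv_cancel_left]
      have hyN : h * (x : G) * h⁻¹ ∈ N := hNn.conj_mem _ x.2 h
      have hc : (m : G) * (h * (x : G) * h⁻¹) = (h * (x : G) * h⁻¹) * (m : G) :=
        congrArg Subtype.val (mul_comm' m ⟨_, hyN⟩)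
      show ((MulAut.conjNormal h x : N) : G) = g * (x : G) * g⁻¹
      rw [MulAut.conjNormal_apply, hgm]
      calc h * (x : G) * h⁻¹ = (h * (x : G) * h⁻¹) * (m : G) * (m : G)⁻¹ := by group
        _ = _ := by rw [← hc]; group
    rcases hNmin X' hXn (Subgroup.map_subtype_le _) with h | h
    · left
      rw [eq_bot_iff]
      intro x hx
      have : ((x.toMul : N) : G) ∈ X' := ⟨x.toMul, hx, rfl⟩
      rw [h, Subgroup.mem_bot] at this
      exact AddSubgroup.mem_bot.mpr (Additive.toMul.injective (Subtype.ext this))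
    · right
      rw [eq_top_iff]
      intro x _
      have : ((x.toMul : N) : G) ∈ X' := by rw [h]; exact (x.toMul : N).2
      obtain ⟨y, hy, hyx⟩ := this
      have e : Additive.ofMul y = x := congrArg Additive.ofMul (Subtype.ext hyx : y = x.toMul)
      exact e ▸ hy
  have hNinj : Function.Injective (fun m : N => m • a) := by
    intro m k h
    have hfix : (k⁻¹ * m) • a = a := by rw [mul_smul, inv_smul_eq_iff]; exact h
    have : k⁻¹ * m = 1 := by
      refine Subtype.ext (eq_of_smul_eq_smul (α := Ω) fun y => ?_)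
      obtain ⟨l, rfl⟩ := MulAction.exists_smul_eq N a y
      show (k⁻¹ * m : N) • l • a = (1 : G) • l • a
      rw [one_smul, ← mul_smul, mul_comm, mul_smul, hfix]
    exact (inv_mul_eq_one.mp this).symm
  have hnN : Nat.card N = Nat.card Ω :=
    Nat.card_congr (Equiv.ofBijective _ ⟨hNinj, MulAction.exists_smul_eq N a⟩)
  obtain ⟨v, hv⟩ := IH H (Additive N) inferInstance (isCR_of_isIrr hirr)
    (le_of_eq_of_le hnN hn₀)
  have hbase : ∀ g : G, g • a = a →
      (∀ k, g • (v k).toMul • a = (v k).toMul • a) → ∀ x : Ω, g • x = x := by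
    intro g hga hgk
    have hmove : ∀ m : N, g • m • a = MulAut.conjNormal g m • a := by
      intro m
      show g • (m : G) • a = ((MulAut.conjNormal g m : N) : G) • a
      rw [MulAut.conjNormal_apply, mul_smul, mul_smul, inv_smul_eq_iff.mpr hga.symm]
    have htriv := hv ⟨g, hga⟩ fun k => congrArg Additive.ofMul
      (hNinj ((hmove _).symm.trans (hgk k)) : MulAut.conjNormal g (v k).toMul = (v k).toMul)
    intro x
    obtain ⟨m, rfl⟩ := MulAction.exists_smul_eq N a x
    rw [hmove]
    exact congrArg (fun z : N => z • a) (congrArg Additive.toMul (htriv (Additive.ofMul m)))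
  by_cases hsmall : Fintype.card Ω ≤ 4
  · refine fiveColour_of_base Finset.univ (by rwa [Finset.card_univ]) (Or.inr rfl) fun g hg x => ?_
    exact hg x (Finset.mem_univ x)
  by_cases hfive : Fintype.card Ω = 5
  · -- five points: the regular subgroup is cyclic
    have hN5 : Nat.card N = 5 := by rw [hnN, Nat.card_eq_fintype_card, hfive]
    haveI := Fact.mk Nat.prime_five
    obtain ⟨m, hm⟩ : ∃ m : N, m ≠ 1 := by
      haveI : Nontrivial N := Finite.one_lt_card_iff_nontrivial.mp (by omega)
      exact exists_ne 1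
    refine fiveColour_of_base {a, m • a} ((Finset.card_le_two).trans (by norm_num))
      (Or.inl (by have := Finset.card_le_two (a := a) (b := m • a); omega)) fun g hg => ?_
    have hga := hg a (Finset.mem_insert_self _ _)
    have hgm := hg (m • a) (Finset.mem_insert_of_mem (Finset.mem_singleton_self _))
    refine hbase g hga fun k => ?_
    have hc : MulAut.conjNormal g m = m := hNinj (by
      show ((MulAut.conjNormal g m : N) : G) • a = m • a
      rw [MulAut.conjNormal_apply, mul_smul, mul_smul, inv_smul_eq_iff.mpr hga.symm]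
      exact hgm)
    obtain ⟨l, hl⟩ := Subgroup.mem_zpowers_iff.mp (mem_zpowers_of_prime_card hN5 hm (g' := (v k).toMul))
    show g • (((v k).toMul : N) : G) • a = _
    calc g • (((v k).toMul : N) : G) • a
        = ((MulAut.conjNormal g (v k).toMul : N) : G) • a := by
          rw [MulAut.conjNormal_apply, mul_smul, mul_smul, inv_smul_eq_iff.mpr hga.symm]
      _ = _ := by rw [← hl, map_zpow, hc]; rfl
  refine fiveColour_of_base (insert a (Finset.univ.image fun k => (v k).toMul • a)) ?_ (Or.inl ?_)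
    fun g hg => hbase g (hg a (Finset.mem_insert_self _ _)) fun k => hg _
      (Finset.mem_insert_of_mem (Finset.mem_image_of_mem _ (Finset.mem_univ k)))
  all_goals
    have h1 := Finset.card_insert_le a (Finset.univ.image fun k => (v k).toMul • a)
    have h2 : (Finset.univ.image fun k : Fin 3 => (v k).toMul • a).card ≤ 3 :=
      Finset.card_image_le.trans (le_of_eq (by simp))
    omega

/-- Every solvable permutation group has five colourings in different orbits with trivial
stabilisers. -/
theorem fiveColour {n₀ : ℕ} (IH : ModHyp.{u} n₀) : ∀ m : ℕ, m ≤ n₀ → ∀ (G Ω : Type u) [Group G]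
    [Finite G] [MulAction G Ω] [Finite Ω] [Nonempty Ω], Group.IsSolvable G → Nat.card Ω ≤ m →
    FiveColour G Ω := by
  intro m
  induction m using Nat.strong_induction_on with
  | _ m ih =>
  intro hm G Ω _ _ _ _ _ hsol hcard
  haveI := hsol
  classical
  haveI := Fintype.ofFinite Ω
  by_cases hsub : Subsingleton Ω
  · obtain ⟨a⟩ := (inferInstance : Nonempty Ω)
    exact fiveColour_of_base Finset.univ (by
      rw [Finset.card_univ]; exact (Fintype.card_le_one_iff_subsingleton.mpr hsub).trans (by norm_num))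
      (Or.inr rfl) fun g hg x => Subsingleton.elim _ _
  rw [not_subsingleton_iff_nontrivial] at hsub
  by_cases htr : MulAction.IsPretransitive G Ω
  swap
  · obtain ⟨a⟩ := (inferInstance : Nonempty Ω)
    set Δ := MulAction.orbit G a
    let P : SubMulAction G Ω := ⟨Δ, fun g x hx => MulAction.mem_orbit_of_mem_orbit g hx⟩
    let P' : SubMulAction G Ω := ⟨Δᶜ, fun g x hx h => hx (by simpa using MulAction.mem_orbit_of_mem_orbit g⁻¹ h)⟩
    have hne : Δ ≠ Set.univ := fun h => htr ⟨fun x y => by
      obtain ⟨g, rfl⟩ : x ∈ Δ := h ▸ Set.mem_univ x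
      obtain ⟨g', rfl⟩ : y ∈ Δ := h ▸ Set.mem_univ y
      exact ⟨g' * g⁻¹, by simp [mul_smul]⟩⟩
    have h1 : Δ.ncard < Nat.card Ω := by
      rw [← Set.ncard_univ]; exact Set.ncard_lt_ncard (Set.ssubset_univ_iff.mpr hne)
    have h2 : Δᶜ.ncard < Nat.card Ω := by
      rw [← Set.ncard_univ]
      exact Set.ncard_lt_ncard (Set.ssubset_univ_iff.mpr (fun h => by
        rw [Set.compl_univ_iff] at h
        exact (Set.eq_empty_iff_forall_notMem.mp h) a (MulAction.mem_orbit_self a)))
    haveI : Nonempty P := ⟨⟨a, MulAction.mem_orbit_self a⟩⟩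
    haveI : Nonempty P' := by
      obtain ⟨x, hx⟩ := (Set.ne_univ_iff_exists_notMem Δ).mp hne
      exact ⟨⟨x, hx⟩⟩
    obtain ⟨f, hf⟩ := ih _ (lt_of_lt_of_le h1 hcard) (by omega) G P hsol le_rfl
    obtain ⟨f', hf'⟩ := ih _ (lt_of_lt_of_le h2 hcard) (by omega) G P' hsol le_rfl
    let F : Fin 5 → Ω → Fin 5 := fun i x =>
      if h : x ∈ Δ then f i ⟨x, h⟩ else f' i ⟨x, h⟩
    have hF : ∀ i (x : P), F i x = f i x := fun i x => dif_pos x.2
    have hF' : ∀ i (x : P'), F i x = f' i x := fun i x => dif_neg x.2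
    refine ⟨F, fun i j g hg => ?_⟩
    obtain ⟨hij, hP⟩ := hf i j g fun x => by rw [← hF, ← hF]; exact hg x
    obtain ⟨-, hP'⟩ := hf' i j g fun x => by rw [← hF', ← hF']; exact hg x
    refine ⟨hij, fun x => ?_⟩
    by_cases hx : x ∈ Δ
    · exact congrArg Subtype.val (hP ⟨x, hx⟩)
    · exact congrArg Subtype.val (hP' ⟨x, hx⟩)
  haveI := htr
  by_cases hprim : MulAction.IsPreprimitive G Ω
  · let φ := MulAction.toPermHom G Ω
    haveI : MulAction.IsPretransitive φ.range Ω := ⟨fun x y => by
      obtain ⟨g, hg⟩ := MulAction.exists_smul_eq G x y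
      exact ⟨⟨φ g, g, rfl⟩, hg⟩⟩
    have hprim' : MulAction.IsPreprimitive φ.range Ω := ⟨fun {B} hB => hprim.isTrivialBlock_of_isBlock (by
      rw [MulAction.isBlock_iff_smul_eq_or_disjoint] at hB ⊢
      exact fun g => hB ⟨φ g, g, rfl⟩)⟩
    haveI : Group.IsSolvable φ.range := Group.isSolvable_of_surjective φ.rangeRestrict_surjective
    obtain ⟨f, hf⟩ := fiveColour_primitive (G := φ.range) hprim' IH (hcard.trans hm)
    exact ⟨f, fun i j g hg => hf i j ⟨φ g, g, rfl⟩ hg⟩
  -- imprimitive
  obtain ⟨B, hB, hBtriv⟩ : ∃ B : Set Ω, MulAction.IsBlock G B ∧ ¬ MulAction.IsTrivialBlock B := by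
    by_contra h
    push Not at h
    exact hprim { isTrivialBlock_of_isBlock := fun {B} hB => h B hB }
  rw [MulAction.IsTrivialBlock, not_or, Set.not_subsingleton_iff] at hBtriv
  obtain ⟨hBns, hBu⟩ := hBtriv
  obtain ⟨b₀, hb₀⟩ := hBns.nonempty
  let Ω' := {C : Set Ω // C ∈ Set.range (fun g : G => g • B)}
  letI : MulAction G Ω' :=
    { smul := fun g C => ⟨g • C.1, by obtain ⟨k, hk⟩ := C.2; exact ⟨g * k, by rw [← hk]; exact mul_smul g k B⟩⟩
      one_smul := fun C => Subtype.ext (one_smul G C.1)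
      mul_smul := fun g k C => Subtype.ext (mul_smul g k C.1) }
  have ht : ∀ C : Ω', ∃ g : G, g • B = C.1 := fun C => C.2
  choose t ht using ht
  have hinj : ∀ (C D : Ω') (b c : Ω), b ∈ B → c ∈ B → t C • b = t D • c → C = D ∧ b = c := by
    intro C D b c hb hc he
    have : C = D := by
      refine Subtype.ext ?_
      rw [← ht C, ← ht D]
      exact hB.smul_eq_smul_of_nonempty ⟨t C • b, Set.smul_mem_smul_set hb, he ▸ Set.smul_mem_smul_set hc⟩
    subst this; exact ⟨rfl, MulAction.injective (t C) he⟩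
  have hB2 : 2 ≤ B.ncard := Set.one_lt_ncard_iff_nontrivial.mpr hBns
  have hcardΩ' : Nat.card Ω' * B.ncard ≤ Nat.card Ω := by
    rw [← Nat.card_coe_set_eq, ← Nat.card_prod]
    exact Nat.card_le_card_of_injective (fun p => t p.1 • (p.2 : Ω)) fun p q h => by
      obtain ⟨h1, h2⟩ := hinj _ _ _ _ p.2.2 q.2.2 h
      exact Prod.ext h1 (Subtype.ext h2)
  haveI : Nonempty Ω' := ⟨⟨B, 1, one_smul G B⟩⟩
  have hΩ'pos : 0 < Nat.card Ω' := Nat.card_pos
  have hΩ'lt : Nat.card Ω' < Nat.card Ω := by
    have := Nat.mul_le_mul_left (Nat.card Ω') hB2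
    omega
  have hBlt : B.ncard < Nat.card Ω := by
    rw [← Set.ncard_univ]; exact Set.ncard_lt_ncard (Set.ssubset_univ_iff.mpr hBu)
  let St := MulAction.stabilizer G B
  let PB : SubMulAction St Ω := ⟨B, fun h x hx => by
    have := Set.smul_mem_smul_set (a := (h : G)) hx
    rwa [h.2] at this⟩
  haveI : Group.IsSolvable St := inferInstance
  haveI : Nonempty PB := ⟨⟨b₀, hb₀⟩⟩
  obtain ⟨fB, hfB⟩ := ih _ (lt_of_lt_of_le hBlt hcard) (by omega) St PB inferInstance le_rfl
  obtain ⟨c, hc⟩ := ih _ (lt_of_lt_of_le hΩ'lt hcard) (by omega) G Ω' hsol le_rfl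
  have hcov : ∀ x : Ω, ∃ (C : Ω') (b : PB), t C • (b : Ω) = x := by
    intro x
    obtain ⟨k, hk⟩ := MulAction.exists_smul_eq G b₀ x
    set C : Ω' := ⟨k • B, k, rfl⟩
    obtain ⟨b, hb, hbx⟩ : x ∈ t C • B := by rw [ht C, ← hk]; exact Set.smul_mem_smul_set hb₀
    exact ⟨C, ⟨b, hb⟩, hbx⟩
  choose pC pb hpx using hcov
  let F : Fin 5 → Ω → Fin 5 := fun k x => fB (c k (pC x)) (pb x)
  have hF : ∀ k (C : Ω') (b : PB), F k (t C • (b : Ω)) = fB (c k C) b := by
    intro k C b
    obtain ⟨e1, e2⟩ := hinj _ _ _ _ (pb _).2 b.2 (hpx (t C • (b : Ω)))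
    show fB (c k (pC _)) (pb _) = _
    rw [e1, Subtype.ext e2]
  refine ⟨F, fun i j g hg => ?_⟩
  have hmem : ∀ C : Ω', (t (g • C))⁻¹ * g * t C ∈ St := fun C => by
    rw [MulAction.mem_stabilizer_iff, mul_smul, mul_smul, ht, inv_smul_eq_iff, ht]
    rfl
  have hmove : ∀ (C : Ω') (b : PB), g • t C • (b : Ω) = t (g • C) • (((⟨_, hmem C⟩ : St) • b : PB) : Ω) := by
    intro C b
    show _ = t (g • C) • ((t (g • C))⁻¹ * g * t C) • (b : Ω)
    rw [mul_smul, mul_smul, smul_inv_smul]
  have hblock : ∀ C : Ω', c i C = c j (g • C) ∧ ∀ b : PB, (⟨_, hmem C⟩ : St) • b = b :=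
    fun C => hfB (c i C) (c j (g • C)) ⟨_, hmem C⟩ fun b => by
      rw [← hF, ← hF, ← hmove]; exact hg _
  obtain ⟨hij, hfix⟩ := hc i j g fun C => (hblock C).1.symm
  refine ⟨hij, fun x => ?_⟩
  rw [← hpx x, hmove, (hblock (pC x)).2, hfix]

end Cfsg.Agent.BaseThree
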