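import Cfsg.Agent.Lib.Grp.BaseTwo.Defs
import Cfsg.Agent.Lib.Grp.Zassenhaus.Quotient

/-!
# Three vectors with trivial common stabiliser: basic reductions

An action has a *triple* when three vectors have common stabiliser equal to the kernel of the
action. For solvable groups one triple gives five triples in different orbits, because the group of
invertible maps of a three dimensional space over a prime field is not solvable.
-/

set_option autoImplicit false
set_option linter.style.haveILetI false

universe u

namespace Cfsg.Agent.BaseThree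

open BaseTwo (IsInv IsCR IsIrr invAction isCR_invAction isCR_of_isIrr)
open scoped commutatorElement

section

variable {A : Type*} {V : Type*} [Group A] [AddCommGroup V] [DistribMulAction A V]

variable (A V) in
/-- Three vectors whose common stabiliser is the kernel of the action. -/
def HasTriple : Prop := ∃ v : Fin 3 → V, ∀ a : A, (∀ k, a • v k = v k) → ∀ x : V, a • x = x

variable (A V) in
/-- Five triples in different orbits, all with common stabiliser the kernel of the action. -/
def FiveTriples : Prop :=
  ∃ f : Fin 5 → Fin 3 → V, ∀ i j (a : A), (∀ k, a • f i k = f j k) → i = j ∧ ∀ x : V, a • x = x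

/-- Triples in two complementary invariant subgroups give a triple. -/
theorem hasTriple_of_compl (U W : AddSubgroup V) (hU : IsInv A U) (hW : IsInv A W)
    (hinf : U ⊓ W = ⊥) (hsup : U ⊔ W = ⊤)
    (pU : @HasTriple A U _ _ (invAction U hU)) (pW : @HasTriple A W _ _ (invAction W hW)) :
    HasTriple A V := by
  obtain ⟨u, hu⟩ := pU
  obtain ⟨w, hw⟩ := pW
  refine ⟨fun k => (u k : V) + w k, fun a h => ?_⟩
  have split : ∀ k, a • (u k : V) = u k ∧ a • (w k : V) = w k := by
    intro k
    have h := h k
    rw [smul_add] at h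
    have e : a • (u k : V) - u k = w k - a • (w k : V) :=
      sub_eq_sub_iff_add_eq_add.mpr (by rw [h, add_comm])
    have : a • (u k : V) - u k ∈ U ⊓ W :=
      ⟨U.sub_mem (hU a _ (u k).2) (u k).2, e ▸ W.sub_mem (w k).2 (hW a _ (w k).2)⟩
    rw [hinf, AddSubgroup.mem_bot, sub_eq_zero] at this
    exact ⟨this, by rw [this] at h; exact add_left_cancel h⟩
  intro x
  have hx : x ∈ U ⊔ W := by rw [hsup]; trivial
  obtain ⟨y, hy, z, hz, rfl⟩ := AddSubgroup.mem_sup.mp hx
  rw [smul_add]
  congr 1
  · exact congrArg Subtype.val (hu a (fun k => Subtype.ext (split k).1) ⟨y, hy⟩)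
  · exact congrArg Subtype.val (hw a (fun k => Subtype.ext (split k).2) ⟨z, hz⟩)

end

/-- The induction hypothesis: triples exist for modules of size at most `n`. -/
def ModHyp (n : ℕ) : Prop :=
  ∀ (A : Type u) (V : Type u) [Group A] [Finite A] [AddCommGroup V] [Finite V] [DistribMulAction A V],
    Group.IsSolvable A → IsCR A V → Nat.card V ≤ n → HasTriple A V

/-- A reducible module. -/
theorem hasTriple_of_reducible {A : Type u} {V : Type u} [Group A] [Finite A] [AddCommGroup V]
    [Finite V] [DistribMulAction A V] (hsol : Group.IsSolvable A) (hcr : IsCR A V)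
    {n : ℕ} (hn : Nat.card V ≤ n + 1) (IH : ModHyp.{u} n) (hred : ¬ IsIrr A V) : HasTriple A V := by
  obtain ⟨U, hU, hU0, hU1⟩ : ∃ U : AddSubgroup V, IsInv A U ∧ U ≠ ⊥ ∧ U ≠ ⊤ := by
    simpa [IsIrr, not_or] using hred
  obtain ⟨W, hW, hinf, hsup⟩ := hcr U hU
  have hW1 : W ≠ ⊤ := fun e => hU0 (by rw [e, inf_top_eq] at hinf; exact hinf)
  have hlt : ∀ X : AddSubgroup V, X ≠ ⊤ → Nat.card X ≤ n := fun X hX => by
    have : Nat.card X < Nat.card V := lt_of_le_of_ne (AddSubgroup.card_le_card_addGroup X)
      fun h => hX (AddSubgroup.eq_top_of_card_eq X h)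
    omega
  letI := invAction U hU
  refine hasTriple_of_compl U W hU hW hinf hsup (IH A U hsol (isCR_invAction hcr U hU) (hlt U hU1)) ?_
  letI := invAction W hW
  exact IH A W hsol (isCR_invAction hcr W hW) (hlt W hW1)

/-! ### The invertible maps of a three dimensional space -/

section

variable {p : ℕ} {ι : Type*} [DecidableEq ι]

/-- An elementary transvection. -/
def transv (i j : ι) (h : i ≠ j) : (ι → ZMod p) ≃ₗ[ZMod p] (ι → ZMod p) where
  toFun x := x + Pi.single i (x j)
  invFun x := x - Pi.single i (x j)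
  left_inv x := by simp [h.symm]
  right_inv x := by simp [h.symm]
  map_add' x y := by
    simp only [Pi.add_apply, Pi.single_add]
    abel
  map_smul' c x := by
    simp only [Pi.smul_apply, Pi.single_smul, smul_add, RingHom.id_apply]

theorem linearEquiv_apply_inv {R M : Type*} [Semiring R] [AddCommMonoid M] [Module R M] (g : M ≃ₗ[R] M)
    (x : M) : g (g⁻¹ x) = x := g.apply_symm_apply x

theorem transv_apply (i j : ι) (h : i ≠ j) (x : ι → ZMod p) :
    transv i j h x = x + Pi.single i (x j) := rfl

theorem transv_inv_apply (i j : ι) (h : i ≠ j) (x : ι → ZMod p) :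
    (transv i j h : (ι → ZMod p) ≃ₗ[ZMod p] (ι → ZMod p))⁻¹ x = x - Pi.single i (x j) := rfl

/-- A transvection as a commutator. -/
theorem commutator_transv {i j k : ι} (hij : i ≠ j) (hik : i ≠ k) (hkj : k ≠ j) :
    ⁅(transv i k hik : (ι → ZMod p) ≃ₗ[ZMod p] (ι → ZMod p)), (transv k j hkj : (ι → ZMod p) ≃ₗ[ZMod p] (ι → ZMod p))⁆ =
      transv i j hij := by
  refine LinearEquiv.ext fun x => ?_
  rw [commutatorElement_def]
  simp only [LinearEquiv.mul_apply, transv_apply, transv_inv_apply]
  simp only [Pi.add_apply, Pi.sub_apply, Pi.single_eq_of_ne hik.symm, Pi.single_eq_of_ne hij.symm,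
    Pi.single_eq_of_ne hkj.symm, Pi.single_eq_same, sub_zero, add_zero, Pi.single_add, Pi.single_sub]
  abel

end

theorem transv_ne_one {p : ℕ} [Fact p.Prime] (i j : Fin 3) (h : i ≠ j) :
    (transv i j h : (Fin 3 → ZMod p) ≃ₗ[ZMod p] (Fin 3 → ZMod p)) ≠ 1 := by
  intro e
  have := congrFun (DFunLike.congr_fun e (Pi.single j 1)) i
  simp [transv_apply, h] at this

/-- A group containing all elementary transvections of a three dimensional space is not solvable. -/
theorem not_isSolvable_of_transv {p : ℕ} [Fact p.Prime] (S : Subgroup ((Fin 3 → ZMod p) ≃ₗ[ZMod p] (Fin 3 → ZMod p)))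
    (hS : ∀ i j (h : i ≠ j), transv i j h ∈ S) : ¬ Group.IsSolvable S := by
  rintro ⟨n, hn⟩
  have key : ∀ m, ∀ i j (h : i ≠ j), (⟨_, hS i j h⟩ : S) ∈ derivedSeries S m := by
    intro m
    induction m with
    | zero => intro i j h; rw [derivedSeries_zero]; trivial
    | succ m ih =>
      intro i j h
      obtain ⟨k, hki, hkj⟩ : ∃ k : Fin 3, k ≠ i ∧ k ≠ j := by
        revert h; revert i j; decide
      rw [derivedSeries_succ]
      have e : (⟨_, hS i j h⟩ : S) = ⁅(⟨_, hS i k hki.symm⟩ : S), ⟨_, hS k j hkj⟩⁆ :=
        Subtype.ext (commutator_transv h hki.symm hkj).symm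
      rw [e]
      exact Subgroup.commutator_mem_commutator (ih i k hki.symm) (ih k j hkj)
  have h01 : (0 : Fin 3) ≠ 1 := by decide
  have h := key n 0 1 h01
  rw [hn, Subgroup.mem_bot] at h
  exact transv_ne_one 0 1 h01 (congrArg Subtype.val h)

/-- A group with a solvable subgroup of index below five is solvable. -/
theorem isSolvable_of_index_lt_five {G : Type*} [Group G] (H : Subgroup G) [Group.IsSolvable H]
    (h0 : H.index ≠ 0) (h : H.index < 5) : Group.IsSolvable G := by
  haveI : H.FiniteIndex := ⟨h0⟩
  let φ := MulAction.toPermHom G (G ⧸ H)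
  have hker : φ.ker ≤ H := by
    intro g hg
    have := Equiv.Perm.ext_iff.mp (MonoidHom.mem_ker.mp hg) (QuotientGroup.mk 1)
    simpa [φ, QuotientGroup.eq] using this
  haveI : Group.IsSolvable φ.ker := Group.isSolvable_of_isSolvable_injective (Subgroup.inclusion_injective hker)
  haveI : Finite (G ⧸ H) := Subgroup.finite_quotient_of_finiteIndex
  haveI := Fintype.ofFinite (G ⧸ H)
  classical
  haveI : Group.IsSolvable φ.range := by
    haveI : Group.IsSolvable (Equiv.Perm (Fin 4)) := Grp.Zas.isSolvable_sym_four
    obtain ⟨e⟩ : Nonempty ((G ⧸ H) ↪ Fin 4) := Function.Embedding.nonempty_of_card_le (by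
      rw [← Nat.card_eq_fintype_card, ← Subgroup.index_eq_card, Fintype.card_fin]; omega)
    exact Group.isSolvable_of_isSolvable_injective (f := (Equiv.Perm.viaEmbeddingHom e).comp φ.range.subtype)
      ((Equiv.Perm.viaEmbeddingHom_injective e).comp φ.range.subtype_injective)
  exact Group.isSolvable_of_ker_le_range φ.ker.subtype φ.rangeRestrict
    (by rw [φ.ker_rangeRestrict, Subgroup.range_subtype])

/-- In an irreducible module every element is killed by one prime. -/
theorem exists_prime_nsmul_eq_zero {A V : Type*} [Group A] [AddCommGroup V] [Finite V] [Nontrivial V]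
    [DistribMulAction A V] (hirr : IsIrr A V) : ∃ p : ℕ, p.Prime ∧ ∀ x : V, p • x = 0 := by
  haveI := Fintype.ofFinite V
  obtain ⟨p, hp, hd⟩ := Nat.exists_prime_and_dvd (show Fintype.card V ≠ 1 from Fintype.one_lt_card.ne')
  haveI := Fact.mk hp
  obtain ⟨x, hx⟩ := exists_prime_addOrderOf_dvd_card p hd
  let U : AddSubgroup V := (nsmulAddMonoidHom p : V →+ V).ker
  have hU : IsInv A U := fun a v hv => by
    show p • a • v = 0
    rw [← smul_comm a p v, show p • v = 0 from hv, smul_zero]
  refine ⟨p, hp, fun y => ?_⟩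
  rcases hirr U hU with h | h
  · exfalso
    have : x ∈ U := by
      show p • x = 0
      rw [← hx]; exact addOrderOf_nsmul_eq_zero x
    rw [h, AddSubgroup.mem_bot] at this
    rw [this, addOrderOf_zero] at hx
    exact hp.one_lt.ne hx
  · exact (h ▸ trivial : y ∈ U)

/-- One triple gives five in different orbits. -/
theorem fiveTriples_of_hasTriple {A V : Type*} [Group A] [Finite A] [Group.IsSolvable A] [AddCommGroup V]
    [Finite V] [Nontrivial V] [DistribMulAction A V] (hirr : IsIrr A V) (h : HasTriple A V) :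
    FiveTriples A V := by
  classical
  obtain ⟨p, hp, hpV⟩ := exists_prime_nsmul_eq_zero hirr
  haveI := Fact.mk hp
  letI : Module (ZMod p) V := AddCommGroup.zmodModule (n := p) hpV
  haveI : Module.Finite (ZMod p) V := Module.Finite.of_finite
  have hlin : ∀ (a : A) (c : ZMod p) (x : V), a • c • x = c • a • x := fun a c x =>
    ZMod.map_smul (DistribSMul.toAddMonoidHom V a) c x
  obtain ⟨v, hv⟩ := h
  have hspan : ∀ (a : A) (s : Set V), (∀ x : V, x ∈ s → a • x = x) →
      ∀ x : V, x ∈ (Submodule.span (ZMod p) s : Set V) → a • x = x := by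
    intro a s hs x hx
    induction hx using Submodule.span_induction with
    | mem x hx => exact hs x hx
    | zero => exact smul_zero a
    | add x y _ _ hx hy => rw [smul_add, hx, hy]
    | smul c x _ hx => rw [hlin, hx]
  rcases Nat.lt_or_ge (Module.finrank (ZMod p) V) 3 with hd | hd
  · -- at most two dimensions: invariants tell the triples apart
    obtain ⟨x, hx⟩ := exists_ne (0 : V)
    by_cases hy : ∃ y, y ∉ Submodule.span (ZMod p) ({x} : Set V)
    · obtain ⟨y, hy⟩ := hy
      have hy0 : y ≠ 0 := fun e => hy (e ▸ zero_mem _)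
      have hxy : x ≠ y := fun e => hy (e ▸ Submodule.mem_span_singleton_self x)
      have htop : Submodule.span (ZMod p) ({x, y} : Set V) = ⊤ := by
        apply Submodule.eq_top_of_finrank_eq
        refine le_antisymm (Submodule.finrank_le _) (le_trans (show Module.finrank (ZMod p) V ≤ 2 by omega) ?_)
        have hli : LinearIndependent (ZMod p) ![x, y] := LinearIndependent.pair_iff' hx |>.mpr fun c hc =>
          hy (Submodule.mem_span_singleton.mpr ⟨c, hc⟩)
        have := finrank_span_eq_card hli
        rw [Matrix.range_cons, Matrix.range_cons, Matrix.range_empty, Set.union_empty] at this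
        rw [show ({x, y} : Set V) = {x} ∪ {y} from (Set.singleton_union).symm, this, Fintype.card_fin]
      have hall' : ∀ z : V, z ∈ (Submodule.span (ZMod p) ({x, y} : Set V) : Set V) := fun z => by
        rw [htop]; trivial
      refine ⟨![![x, y, 0], ![x, 0, y], ![0, x, y], ![x, y, x], ![x, y, y]], fun i j a hij => ?_⟩
      have h0 := hij 0
      have h1 := hij 1
      have h2 := hij 2
      fin_cases i <;> fin_cases j <;> simp [smul_eq_zero_iff_eq] at h0 h1 h2 <;>
        first
        | exact absurd h0 hx | exact absurd h0.symm hx | exact absurd h1 hy0 | exact absurd h1.symm hy0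
        | exact absurd h2 hy0 | exact absurd h2.symm hy0 | exact absurd h2 hx | exact absurd h2.symm hx
        | exact absurd h1 hx | exact absurd h1.symm hx
        | exact absurd (h2.symm.trans h0) hxy | exact absurd (h0.symm.trans h2) hxy
        | exact absurd (h2.symm.trans h1) hxy | exact absurd (h1.symm.trans h2) hxy
        | exact absurd (h0.symm.trans h1) hxy | exact absurd (h1.symm.trans h0) hxy
        | refine ⟨rfl, fun z => hspan a _ ?_ z (hall' z)⟩
          intro w hw
          rcases hw with rfl | rfl <;> assumption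
    · push Not at hy
      refine ⟨![![x, 0, 0], ![0, x, 0], ![0, 0, x], ![x, x, 0], ![0, x, x]], fun i j a hij => ?_⟩
      have h0 := hij 0
      have h1 := hij 1
      have h2 := hij 2
      fin_cases i <;> fin_cases j <;> simp [smul_eq_zero_iff_eq] at h0 h1 h2 <;>
        first
        | exact absurd h0 hx | exact absurd h0.symm hx | exact absurd h1 hx | exact absurd h1.symm hx
        | exact absurd h2 hx | exact absurd h2.symm hx
        | refine ⟨rfl, fun z => hspan a _ ?_ z (hy z)⟩
          intro w hw
          rw [Set.mem_singleton_iff] at hw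
          subst hw
          assumption
  · -- three independent vectors
    obtain ⟨W, hvW, hW⟩ : ∃ W : Submodule (ZMod p) V,
        Submodule.span (ZMod p) (Set.range v) ≤ W ∧ Module.finrank (ZMod p) W = 3 := by
      have key : ∀ m, Module.finrank (ZMod p) (Submodule.span (ZMod p) (Set.range v)) + m ≤ 3 →
          ∃ W : Submodule (ZMod p) V, Submodule.span (ZMod p) (Set.range v) ≤ W ∧
            Module.finrank (ZMod p) W = Module.finrank (ZMod p) (Submodule.span (ZMod p) (Set.range v)) + m := by
        intro m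
        induction m with
        | zero => exact fun _ => ⟨_, le_rfl, rfl⟩
        | succ m ih =>
          intro hm
          obtain ⟨W, hle, hW⟩ := ih (by omega)
          obtain ⟨x, -, hx⟩ := SetLike.exists_of_lt
            (show W < ⊤ from lt_top_iff_ne_top.mpr fun e => by rw [e, finrank_top] at hW; omega)
          refine ⟨W ⊔ Submodule.span (ZMod p) {x}, hle.trans le_sup_left, ?_⟩
          rw [Submodule.finrank_sup_span_singleton hx, hW]; omega
      have hle : Module.finrank (ZMod p) (Submodule.span (ZMod p) (Set.range v)) ≤ 3 :=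
        (finrank_range_le_card v).trans_eq (Fintype.card_fin 3)
      obtain ⟨W, h1, h2⟩ := key (3 - Module.finrank (ZMod p) (Submodule.span (ZMod p) (Set.range v))) (by omega)
      exact ⟨W, h1, by omega⟩
    let b := Module.finBasisOfFinrankEq (ZMod p) W hW
    let φ : (Fin 3 → ZMod p) →ₗ[ZMod p] V := W.subtype.comp b.equivFun.symm.toLinearMap
    have hφ : Function.Injective φ := fun x y h => b.equivFun.symm.injective (Subtype.ext h)
    have hφr : ∀ x ∈ W, ∃ c, φ c = x := fun x hx => ⟨b.equivFun ⟨x, hx⟩, by simp [φ]⟩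
    have hφs : ∀ c, φ c ∈ W := fun c => (b.equivFun.symm c).2
    let I := Fin 3 → ZMod p
    have hdec : ∀ c : I, φ c = ∑ k, c k • φ (Pi.single k 1) := fun c => by
      conv_lhs => rw [pi_eq_sum_univ' c]
      rw [map_sum]
      refine Finset.sum_congr rfl fun k _ => ?_
      exact map_smul φ _ _
    -- the induced linear maps
    let H₀ : Subgroup ((I ≃ₗ[ZMod p] I)) :=
      { carrier := {g | ∃ a : A, ∀ c, a • φ c = φ (g c)}
        one_mem' := ⟨1, fun c => by simp⟩
        mul_mem' := by
          rintro g g' ⟨a, ha⟩ ⟨a', ha'⟩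
          exact ⟨a * a', fun c => by rw [mul_smul, ha', ha]; rfl⟩
        inv_mem' := by
          rintro g ⟨a, ha⟩
          refine ⟨a⁻¹, fun c => ?_⟩
          rw [inv_smul_eq_iff, ha, linearEquiv_apply_inv] }
    let S₀ : Subgroup A :=
      { carrier := {a | ∃ g : (I ≃ₗ[ZMod p] I), ∀ c, a • φ c = φ (g c)}
        one_mem' := ⟨1, fun c => by simp⟩
        mul_mem' := by
          rintro a a' ⟨g, ha⟩ ⟨g', ha'⟩
          exact ⟨g * g', fun c => by rw [mul_smul, ha', ha]; rfl⟩
        inv_mem' := by
          rintro a ⟨g, ha⟩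
          refine ⟨g⁻¹, fun c => ?_⟩
          rw [inv_smul_eq_iff, ha, linearEquiv_apply_inv] }
    choose ρ hρ using fun a : S₀ => a.2
    let ρh : S₀ →* H₀ := MonoidHom.mk' (fun a => ⟨ρ a, a.1, hρ a⟩) fun a a' => Subtype.ext
      (LinearEquiv.ext fun c => hφ (by
        show φ (ρ (a * a') c) = φ (ρ a (ρ a' c))
        rw [← hρ, ← hρ, ← hρ]; exact mul_smul (a : A) a' _))
    have hρs : Function.Surjective ρh := by
      rintro ⟨g, a, ha⟩
      exact ⟨⟨a, g, ha⟩, Subtype.ext (LinearEquiv.ext fun c => hφ
        ((hρ ⟨a, g, ha⟩ c).symm.trans (ha c)))⟩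
    haveI : Group.IsSolvable H₀ := Group.isSolvable_of_surjective hρs
    have hns : ¬ Group.IsSolvable ((I ≃ₗ[ZMod p] I)) := fun hs =>
      not_isSolvable_of_transv (⊤ : Subgroup ((I ≃ₗ[ZMod p] I))) (fun _ _ _ => Subgroup.mem_top _) inferInstance
    haveI : Finite ((I ≃ₗ[ZMod p] I)) := Finite.of_injective (fun g : (I ≃ₗ[ZMod p] I) => (g : I → I)) DFunLike.coe_injective
    have h5 : 5 ≤ H₀.index := by
      by_contra hlt
      exact hns (isSolvable_of_index_lt_five H₀ Subgroup.index_ne_zero_of_finite (by omega))
    obtain ⟨e⟩ : Nonempty (Fin 5 ↪ (I ≃ₗ[ZMod p] I) ⧸ H₀) := by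
      haveI := Fintype.ofFinite ((I ≃ₗ[ZMod p] I) ⧸ H₀)
      exact Function.Embedding.nonempty_of_card_le
        (by rw [Fintype.card_fin, ← Nat.card_eq_fintype_card, ← Subgroup.index_eq_card]; exact h5)
    let g : Fin 5 → (I ≃ₗ[ZMod p] I) := fun i => ((e i).out)⁻¹
    refine ⟨fun i k => φ (g i (Pi.single k 1)), fun i j a hij => ?_⟩
    have hall : ∀ c, a • φ (g i c) = φ (g j c) := by
      intro c
      conv_lhs => rw [pi_eq_sum_univ' c]
      conv_rhs => rw [pi_eq_sum_univ' c]
      simp only [map_sum, Finset.smul_sum]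
      refine Finset.sum_congr rfl fun k _ => ?_
      rw [map_smul, map_smul, map_smul, map_smul, hlin, hij]
    have hmem : g j * (g i)⁻¹ ∈ H₀ := ⟨a, fun c => by
      have := hall ((g i)⁻¹ c)
      rwa [linearEquiv_apply_inv] at this⟩
    have heq : i = j := by
      apply e.injective
      rw [← (e i).out_eq, ← (e j).out_eq]
      refine (QuotientGroup.eq.mpr ?_).symm
      simpa [g] using hmem
    subst heq
    refine ⟨rfl, hv a fun k => ?_⟩
    obtain ⟨c, hc⟩ := hφr (v k) (hvW (Submodule.subset_span ⟨k, rfl⟩))
    have := hall ((g i)⁻¹ c)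
    rwa [linearEquiv_apply_inv, hc] at this

end Cfsg.Agent.BaseThree
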