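import Mathlib

/-!
# Frames of operator groups which are extraspecial modulo scalars

A multiplicative set of operators in a finite algebra over a finite field in which commutators and
`r`-th powers are scalars has a symplectic frame: commuting elements `D d` and `S c` of order `r`,
indexed by vectors, and possibly one quaternion pair.
-/

set_option autoImplicit false

namespace Cfsg.Agent.BaseThree

variable {K E : Type*} [Field K] [Ring E] [Algebra K E]

/-- A multiplicative set of operators, extraspecial modulo scalars. -/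
structure Ops (K E : Type*) [Field K] [Ring E] [Algebra K E] (r : ℕ) (ζ : K) where
  carrier : Set E
  mul_mem : ∀ e ∈ carrier, ∀ f ∈ carrier, e * f ∈ carrier
  smul_mem : ∀ e ∈ carrier, ∀ k : K, k ≠ 0 → k • e ∈ carrier
  one_mem : (1 : E) ∈ carrier
  prime : r.Prime
  root : IsPrimitiveRoot ζ r
  comm : ∀ e ∈ carrier, ∀ f ∈ carrier, ∃ k : ℕ, e * f = ζ ^ k • (f * e)
  pow_scalar : ∀ e ∈ carrier, ∃ l : K, l ≠ 0 ∧ e ^ r = l • 1
  center : ∀ e ∈ carrier, (∀ f ∈ carrier, e * f = f * e) → ∃ l : K, l ≠ 0 ∧ e = l • 1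
  split : (r ≠ 2 ∨ IsSquare (-1 : K)) → ∀ e ∈ carrier, ∃ l : K, l ≠ 0 ∧ e ^ r = l ^ r • 1

/-- The character of the integers modulo `r` given by `ζ`. -/
def chi {r : ℕ} (ζ : K) (t : ZMod r) : K := ζ ^ t.val

namespace Ops

variable {r : ℕ} {ζ : K} (O : Ops K E r ζ)

include O

theorem neZero : NeZero r := ⟨O.prime.ne_zero⟩

theorem chi_natCast (k : ℕ) : chi ζ ((k : ZMod r)) = ζ ^ k := by
  rw [chi, ZMod.val_natCast, O.root.eq_orderOf, pow_mod_orderOf]

theorem chi_zero : chi ζ (0 : ZMod r) = 1 := by simp [chi]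

theorem chi_add (s t : ZMod r) : chi ζ (s + t) = chi ζ s * chi ζ t := by
  haveI := O.neZero
  obtain ⟨a, rfl⟩ : ∃ a : ℕ, (a : ZMod r) = s := ⟨s.val, ZMod.natCast_zmod_val s⟩
  obtain ⟨b, rfl⟩ : ∃ b : ℕ, (b : ZMod r) = t := ⟨t.val, ZMod.natCast_zmod_val t⟩
  rw [← Nat.cast_add, O.chi_natCast, O.chi_natCast, O.chi_natCast, pow_add]

theorem chi_ne_zero (t : ZMod r) : chi ζ t ≠ 0 := pow_ne_zero _ (O.root.ne_zero O.prime.ne_zero)

theorem chi_eq_one {t : ZMod r} : chi ζ t = 1 ↔ t = 0 := by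
  haveI := O.neZero
  refine ⟨fun h => ?_, fun h => by rw [h, O.chi_zero]⟩
  exact (ZMod.val_eq_zero t).mp (Nat.eq_zero_of_dvd_of_lt ((O.root.pow_eq_one_iff_dvd _).mp h) t.val_lt)

theorem chi_neg_mul (t : ZMod r) : chi ζ (-t) * chi ζ t = 1 := by
  rw [← O.chi_add, neg_add_cancel, O.chi_zero]

theorem pow_mem {e : E} (he : e ∈ O.carrier) : ∀ n : ℕ, e ^ n ∈ O.carrier
  | 0 => by rw [pow_zero]; exact O.one_mem
  | n + 1 => by rw [pow_succ]; exact O.mul_mem _ (pow_mem he n) _ he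

theorem exists_left_inv {e : E} (he : e ∈ O.carrier) : ∃ f ∈ O.carrier, f * e = 1 := by
  obtain ⟨l, hl, he'⟩ := O.pow_scalar e he
  refine ⟨l⁻¹ • e ^ (r - 1), O.smul_mem _ (O.pow_mem he _) _ (inv_ne_zero hl), ?_⟩
  rw [smul_mul_assoc, ← pow_succ, Nat.sub_add_cancel O.prime.one_le, he', smul_smul,
    inv_mul_cancel₀ hl, one_smul]

theorem ne_zero [Nontrivial E] {e : E} (he : e ∈ O.carrier) : e ≠ 0 := by
  intro h
  obtain ⟨f, -, hf⟩ := O.exists_left_inv he
  rw [h, mul_zero] at hf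
  exact zero_ne_one hf

/-- A partial frame. -/
structure Pre (m : ℕ) where
  D : (Fin m → ZMod r) → E
  S : (Fin m → ZMod r) → E
  D_mem : ∀ d, D d ∈ O.carrier
  S_mem : ∀ c, S c ∈ O.carrier
  D_zero : D 0 = 1
  S_zero : S 0 = 1
  D_add : ∀ d d', D (d + d') = D d * D d'
  S_add : ∀ c c', S (c + c') = S c * S c'
  DS : ∀ d c, D d * S c = chi ζ (d ⬝ᵥ c) • (S c * D d)

end Ops

namespace Ops.Pre

variable {r : ℕ} {ζ : K} {O : Ops K E r ζ} {m : ℕ} (P : O.Pre m)

include P

/-- Elements commuting with the frame. -/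
def Rem (n : E) : Prop :=
  n ∈ O.carrier ∧ (∀ d, P.D d * n = n * P.D d) ∧ ∀ c, P.S c * n = n * P.S c

theorem D_comm (d d' : Fin m → ZMod r) : P.D d * P.D d' = P.D d' * P.D d := by
  rw [← P.D_add, ← P.D_add, add_comm]

theorem S_comm (c c' : Fin m → ZMod r) : P.S c * P.S c' = P.S c' * P.S c := by
  rw [← P.S_add, ← P.S_add, add_comm]

theorem D_neg_mul (d : Fin m → ZMod r) : P.D (-d) * P.D d = 1 := by
  rw [← P.D_add, neg_add_cancel, P.D_zero]

theorem D_mul_neg (d : Fin m → ZMod r) : P.D d * P.D (-d) = 1 := by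
  rw [← P.D_add, add_neg_cancel, P.D_zero]

theorem S_neg_mul (c : Fin m → ZMod r) : P.S (-c) * P.S c = 1 := by
  rw [← P.S_add, neg_add_cancel, P.S_zero]

theorem S_mul_neg (c : Fin m → ZMod r) : P.S c * P.S (-c) = 1 := by
  rw [← P.S_add, add_neg_cancel, P.S_zero]

theorem SD (c d : Fin m → ZMod r) : P.S c * P.D d = chi ζ (-(d ⬝ᵥ c)) • (P.D d * P.S c) := by
  rw [P.DS, smul_smul, O.chi_neg_mul, one_smul]

/-- An element commutes with a frame up to a character. -/
theorem exists_char {e : E} (he : e ∈ O.carrier) (F : (Fin m → ZMod r) → E)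
    (hF : ∀ d, F d ∈ O.carrier) (h0 : F 0 = 1) (hadd : ∀ d d', F (d + d') = F d * F d') :
    ∃ a : Fin m → ZMod r, ∀ d, F d * e = chi ζ (d ⬝ᵥ a) • (e * F d) := by
  haveI := O.neZero
  choose k hk using fun i => O.comm (F (Pi.single i 1)) (hF _) e he
  let a : Fin m → ZMod r := fun i => (k i : ZMod r)
  refine ⟨a, fun d => ?_⟩
  let T : AddSubmonoid (Fin m → ZMod r) :=
    { carrier := {d | F d * e = chi ζ (d ⬝ᵥ a) • (e * F d)}
      zero_mem' := by simp [h0, O.chi_zero]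
      add_mem' := fun {d d'} hd hd' => by
        show F (d + d') * e = _
        rw [hadd, mul_assoc, show F d' * e = _ from hd', mul_smul_comm, ← mul_assoc,
          show F d * e = _ from hd, smul_mul_assoc, smul_smul, add_dotProduct, O.chi_add, mul_assoc,
          mul_comm (chi ζ (d' ⬝ᵥ a))] }
  have hs : ∀ i, Pi.single i 1 ∈ T := fun i => by
    show F (Pi.single i 1) * e = _
    rw [single_dotProduct, one_mul, O.chi_natCast, hk]
  show d ∈ T
  rw [pi_eq_sum_univ' d]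
  refine T.sum_mem fun i _ => ?_
  rw [← ZMod.natCast_zmod_val (d i), Nat.cast_smul_eq_nsmul]
  exact T.nsmul_mem (hs i) _

/-- Every element is a product of frame elements and one commuting with the frame. -/
theorem decomp {e : E} (he : e ∈ O.carrier) :
    ∃ c d, ∃ n, P.Rem n ∧ e = P.S c * P.D d * n := by
  obtain ⟨a, ha⟩ := exists_char P he P.D P.D_mem P.D_zero P.D_add
  obtain ⟨b, hb⟩ := exists_char P he P.S P.S_mem P.S_zero P.S_add
  refine ⟨a, -b, P.D b * (P.S (-a) * e), ⟨O.mul_mem _ (P.D_mem _) _ (O.mul_mem _ (P.S_mem _) _ he),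
    fun d => ?_, fun c => ?_⟩, ?_⟩
  · rw [← mul_assoc, P.D_comm, mul_assoc, ← mul_assoc (P.D d), P.DS, smul_mul_assoc, mul_assoc (P.S _),
      ha]
    simp only [mul_smul_comm, smul_smul, dotProduct_neg, O.chi_neg_mul, one_smul, mul_assoc]
  · rw [← mul_assoc, P.SD, smul_mul_assoc, mul_assoc (P.D b), ← mul_assoc (P.S c), P.S_comm c,
      mul_assoc (P.S _), hb, mul_smul_comm, mul_smul_comm, smul_smul, dotProduct_comm c b,
      O.chi_neg_mul, one_smul, mul_assoc, mul_assoc]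
  · rw [← mul_assoc, mul_assoc (P.S a), P.D_neg_mul, mul_one, ← mul_assoc, P.S_mul_neg, one_mul]

theorem rem_one : P.Rem 1 := ⟨O.one_mem, fun d => by simp, fun c => by simp⟩

theorem rem_smul {n : E} (hn : P.Rem n) {l : K} (hl : l ≠ 0) : P.Rem (l • n) :=
  ⟨O.smul_mem _ hn.1 _ hl, fun d => by rw [mul_smul_comm, smul_mul_assoc, hn.2.1],
    fun c => by rw [mul_smul_comm, smul_mul_assoc, hn.2.2]⟩

theorem rem_mul {n n' : E} (hn : P.Rem n) (hn' : P.Rem n') : P.Rem (n * n') :=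
  ⟨O.mul_mem _ hn.1 _ hn'.1, fun d => by rw [← mul_assoc, hn.2.1, mul_assoc, hn'.2.1, ← mul_assoc],
    fun c => by rw [← mul_assoc, hn.2.2, mul_assoc, hn'.2.2, ← mul_assoc]⟩

theorem rem_pow {n : E} (hn : P.Rem n) : ∀ j : ℕ, P.Rem (n ^ j)
  | 0 => by rw [pow_zero]; exact rem_one P
  | j + 1 => by rw [pow_succ]; exact rem_mul P (rem_pow hn j) hn

/-- A commuting element centralised by the commuting elements is a scalar. -/
theorem scalar_of_central {n : E} (hn : P.Rem n) (h : ∀ n', P.Rem n' → n * n' = n' * n) :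
    ∃ l : K, l ≠ 0 ∧ n = l • 1 := by
  refine O.center n hn.1 fun f hf => ?_
  obtain ⟨c, d, n', hn', rfl⟩ := P.decomp hf
  rw [← mul_assoc, ← mul_assoc, ← hn.2.2, mul_assoc (P.S c) n, ← hn.2.1, mul_assoc, mul_assoc, h n' hn',
    ← mul_assoc, ← mul_assoc, mul_assoc]

/-- Extension by one pair. -/
theorem extend {X Y : E} (hX : P.Rem X) (hY : P.Rem Y) (hXr : X ^ r = 1) (hYr : Y ^ r = 1)
    (hXY : X * Y = ζ • (Y * X)) : Nonempty (O.Pre (m + 1)) := by
  haveI := O.neZero
  have hpow : ∀ Z : E, Z ^ r = 1 → ∀ s t : ZMod r, Z ^ (s + t).val = Z ^ s.val * Z ^ t.val := by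
    intro Z hZ s t
    rw [← pow_add, ZMod.val_add, ← pow_eq_pow_mod _ hZ]
  have hXY1 : ∀ i : ℕ, X ^ i * Y = ζ ^ i • (Y * X ^ i) := by
    intro i
    induction i with
    | zero => simp
    | succ i ih =>
      rw [pow_succ, mul_assoc, hXY, mul_smul_comm, ← mul_assoc, ih, smul_mul_assoc, smul_smul, mul_assoc,
        ← pow_succ, ← pow_succ']
  have hXYij : ∀ i j : ℕ, X ^ i * Y ^ j = ζ ^ (i * j) • (Y ^ j * X ^ i) := by
    intro i j
    induction j with
    | zero => simp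
    | succ j ih =>
      rw [pow_succ, ← mul_assoc, ih, smul_mul_assoc, mul_assoc, hXY1, mul_smul_comm, smul_smul,
        ← mul_assoc, ← pow_add, Nat.mul_succ]
  refine ⟨{
    D := fun d => X ^ (d 0).val * P.D (Fin.tail d)
    S := fun c => Y ^ (c 0).val * P.S (Fin.tail c)
    D_mem := fun d => O.mul_mem _ (O.pow_mem hX.1 _) _ (P.D_mem _)
    S_mem := fun c => O.mul_mem _ (O.pow_mem hY.1 _) _ (P.S_mem _)
    D_zero := by simp [show Fin.tail (0 : Fin (m + 1) → ZMod r) = 0 from rfl, P.D_zero]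
    S_zero := by simp [show Fin.tail (0 : Fin (m + 1) → ZMod r) = 0 from rfl, P.S_zero]
    D_add := fun d d' => ?_
    S_add := fun c c' => ?_
    DS := fun d c => ?_ }⟩
  · rw [show Fin.tail (d + d') = Fin.tail d + Fin.tail d' from rfl, P.D_add, Pi.add_apply, hpow X hXr,
      mul_assoc, ← mul_assoc (X ^ (d' 0).val), ← (rem_pow P hX _).2.1, ← mul_assoc, ← mul_assoc,
      ← mul_assoc]
  · rw [show Fin.tail (c + c') = Fin.tail c + Fin.tail c' from rfl, P.S_add, Pi.add_apply, hpow Y hYr,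
      mul_assoc, ← mul_assoc (Y ^ (c' 0).val), ← (rem_pow P hY _).2.2, ← mul_assoc, ← mul_assoc,
      ← mul_assoc]
  · have hdot : d ⬝ᵥ c = d 0 * c 0 + Fin.tail d ⬝ᵥ Fin.tail c := Fin.sum_univ_succ _
    have hψ : chi ζ (d 0 * c 0) = ζ ^ ((d 0).val * (c 0).val) := by
      rw [← O.chi_natCast, Nat.cast_mul, ZMod.natCast_zmod_val, ZMod.natCast_zmod_val]
    rw [hdot, O.chi_add, hψ]
    rw [show X ^ (d 0).val * P.D (Fin.tail d) * (Y ^ (c 0).val * P.S (Fin.tail c)) =
        X ^ (d 0).val * (P.D (Fin.tail d) * Y ^ (c 0).val) * P.S (Fin.tail c) by simp only [mul_assoc],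
      (rem_pow P hY _).2.1, ← mul_assoc, hXYij, smul_mul_assoc, smul_mul_assoc,
      mul_assoc (Y ^ (c 0).val * X ^ (d 0).val), P.DS, mul_smul_comm, smul_smul]
    congr 1
    rw [mul_assoc (Y ^ (c 0).val), ← mul_assoc (X ^ (d 0).val), ← (rem_pow P hX _).2.2]
    simp only [mul_assoc]

omit P in
theorem empty (O : Ops K E r ζ) : Nonempty (O.Pre 0) :=
  ⟨{ D := fun _ => 1, S := fun _ => 1, D_mem := fun _ => O.one_mem, S_mem := fun _ => O.one_mem
     D_zero := rfl, S_zero := rfl, D_add := fun _ _ => (mul_one 1).symm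
     S_add := fun _ _ => (mul_one 1).symm
     DS := fun d c => by simp [O.chi_zero] }⟩

theorem S_eq_one [Nontrivial E] {c : Fin m → ZMod r} (hc : P.S c = 1) : c = 0 := by
  funext i
  have h := P.DS (Pi.single i 1) c
  rw [hc, mul_one, one_mul, single_dotProduct, one_mul] at h
  have h1 : (chi ζ (c i) - 1) • P.D (Pi.single i 1) = 0 := by rw [sub_smul, one_smul, ← h, sub_self]
  exact O.chi_eq_one.mp (sub_eq_zero.mp ((smul_eq_zero.mp h1).resolve_right (O.ne_zero (P.D_mem _))))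

end Ops.Pre

namespace Ops

variable {r : ℕ} {ζ : K} (O : Ops K E r ζ)

include O

/-- A frame after which either only scalars remain or one quaternion pair. -/
theorem exists_frame [Finite K] [Finite E] [Nontrivial E] :
    ∃ m, ∃ P : O.Pre m,
      (∀ n, P.Rem n → ∃ l : K, n = l • 1) ∨
      (r = 2 ∧ (2 : K) ≠ 0 ∧ ¬ IsSquare (-1 : K) ∧ ∃ X Y : E, P.Rem X ∧ P.Rem Y ∧ X * X = -1 ∧ Y * Y = -1 ∧
        X * Y = -(Y * X) ∧
        ∀ n, P.Rem n → ∃ l : K, n = l • 1 ∨ n = l • X ∨ n = l • Y ∨ n = l • (X * Y)) := by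
  classical
  haveI := O.neZero
  obtain ⟨m, ⟨P⟩, hmax⟩ : ∃ m, Nonempty (O.Pre m) ∧ ¬ Nonempty (O.Pre (m + 1)) := by
    by_contra hall
    push Not at hall
    have : ∀ m, Nonempty (O.Pre m) := fun m => by
      induction m with
      | zero => exact Pre.empty O
      | succ m ih => exact hall m ih
    obtain ⟨P⟩ := this (Nat.card E)
    have hinj : Function.Injective P.S := fun c c' h => by
      have : P.S (c + -c') = 1 := by rw [P.S_add, h, P.S_mul_neg]
      exact eq_of_sub_eq_zero (by rw [sub_eq_add_neg]; exact P.S_eq_one this)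
    have := Nat.card_le_card_of_injective _ hinj
    rw [Nat.card_eq_fintype_card (α := Fin (Nat.card E) → ZMod r), Fintype.card_fun, ZMod.card,
      Fintype.card_fin] at this
    exact absurd this (not_le.mpr (Nat.lt_pow_self O.prime.one_lt))
  refine ⟨m, P, ?_⟩
  let Sing : E → Prop := fun n => ∃ l : K, l ≠ 0 ∧ n ^ r = l ^ r • (1 : E)
  have hnorm : ∀ n, P.Rem n → Sing n → ∃ l : K, l ≠ 0 ∧ (l • n) ^ r = 1 := by
    rintro n - ⟨l, hl, h⟩
    exact ⟨l⁻¹, inv_ne_zero hl, by rw [smul_pow, h, smul_smul, ← mul_pow, inv_mul_cancel₀ hl, one_pow, one_smul]⟩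
  -- singular elements are scalars
  have hsing : ∀ n, P.Rem n → Sing n → ∃ l : K, l ≠ 0 ∧ n = l • 1 := by
    intro n hn hns
    refine P.scalar_of_central hn fun n₁ hn₁ => ?_
    by_contra hne
    obtain ⟨k, hk⟩ := O.comm n hn.1 n₁ hn₁.1
    have hk0 : ζ ^ k ≠ 1 := fun h => hne (by rw [hk, h, one_smul])
    -- a singular element not commuting with n
    obtain ⟨n₂, hn₂, hs₂, k₂, hk₂, hk₂0⟩ : ∃ n₂, P.Rem n₂ ∧ Sing n₂ ∧
        ∃ k₂ : ℕ, n * n₂ = ζ ^ k₂ • (n₂ * n) ∧ ζ ^ k₂ ≠ 1 := by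
      by_cases hs₁ : Sing n₁
      · exact ⟨n₁, hn₁, hs₁, k, hk, hk0⟩
      by_cases hsp : r ≠ 2 ∨ IsSquare (-1 : K)
      · exact absurd (O.split hsp n₁ hn₁.1) hs₁
      push Not at hsp
      obtain ⟨hr2, hneg⟩ := hsp
      subst hr2
      have hζ : ζ = -1 := O.root.eq_neg_one_of_two_right
      have hk1 : ζ ^ k = -1 := by
        rw [hζ] at hk0 ⊢
        exact (neg_one_pow_eq_or K k).resolve_left hk0
      rw [hk1, neg_smul, one_smul] at hk
      haveI := Fintype.ofFinite K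
      obtain ⟨l, hl, hls⟩ := hns
      obtain ⟨l₁, hl₁, hl₁s⟩ := O.pow_scalar n₁ hn₁.1
      have hnsq : ¬ IsSquare l₁ := fun ⟨t, ht⟩ => hs₁ ⟨t, fun h => hl₁ (by rw [ht, h, mul_zero]),
        by rw [hl₁s, ht, pow_two t]⟩
      obtain ⟨t, ht⟩ : IsSquare (-l₁) := by
        have hchar : ringChar K ≠ 2 := fun h => hneg ((FiniteField.isSquare_of_char_two h) _)
        by_contra hns'
        have e1 := quadraticChar_neg_one_iff_not_isSquare.mpr hnsq
        have e2 := quadraticChar_neg_one_iff_not_isSquare.mpr hns'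
        have e3 := quadraticChar_neg_one_iff_not_isSquare.mpr hneg
        rw [neg_eq_neg_one_mul, map_mul, e1, e3] at e2
        norm_num at e2
      refine ⟨n * n₁, Pre.rem_mul P hn hn₁, ⟨l * t, mul_ne_zero hl (fun h => hl₁ ?_), ?_⟩, k, ?_, hk0⟩
      · exact neg_eq_zero.mp (by rw [ht, h, mul_zero])
      · have hn1n : n₁ * n = -(n * n₁) := by rw [hk, neg_neg]
        calc (n * n₁) ^ 2 = n * (n₁ * n) * n₁ := by rw [pow_two]; simp only [mul_assoc]
          _ = -(n ^ 2 * n₁ ^ 2) := by rw [hn1n, pow_two, pow_two, mul_neg, neg_mul]; simp only [mul_assoc]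
          _ = _ := by
            rw [hls, hl₁s, smul_mul_assoc, one_mul, smul_smul, ← neg_smul]
            congr 1
            rw [mul_pow, pow_two t, ← ht]
            ring
      · rw [hk1, neg_smul, one_smul, mul_assoc n n₁, ← mul_neg, ← neg_eq_iff_eq_neg.mpr hk, neg_neg]
    obtain ⟨lX, hlX, hX⟩ := hnorm n hn hns
    obtain ⟨lY, hlY, hY⟩ := hnorm n₂ hn₂ hs₂
    haveI := Fact.mk O.prime
    have hkr : (k₂ : ZMod r) ≠ 0 := fun h => hk₂0 (by rw [← O.chi_natCast, h, O.chi_zero])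
    set t := ((k₂ : ZMod r)⁻¹).val
    refine hmax (P.extend (Pre.rem_smul P hn hlX) (Pre.rem_pow P (Pre.rem_smul P hn₂ hlY) t) hX
      (by rw [← pow_mul, mul_comm, pow_mul, hY, one_pow]) ?_)
    have hcomm1 : lX • n * (lY • n₂) = ζ ^ k₂ • (lY • n₂ * (lX • n)) := by
      rw [smul_mul_assoc, mul_smul_comm, hk₂, smul_mul_assoc, mul_smul_comm, smul_smul, smul_smul, smul_smul,
        smul_smul]
      congr 1
      ring
    have hpow : ∀ j : ℕ, lX • n * (lY • n₂) ^ j = ζ ^ (k₂ * j) • ((lY • n₂) ^ j * (lX • n)) := by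
      intro j
      induction j with
      | zero => simp
      | succ j ih =>
        rw [pow_succ, ← mul_assoc, ih, smul_mul_assoc, mul_assoc, hcomm1, mul_smul_comm, smul_smul,
          ← mul_assoc, ← pow_add, Nat.mul_succ]
    rw [hpow, ← O.chi_natCast, Nat.cast_mul, ZMod.natCast_zmod_val, mul_inv_cancel₀ hkr,
      show chi ζ (1 : ZMod r) = ζ by rw [← Nat.cast_one, O.chi_natCast, pow_one]]
  by_cases hall : ∀ n, P.Rem n → ∃ l : K, n = l • 1
  · exact Or.inl hall
  push Not at hall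
  obtain ⟨n, hn, hnl⟩ := hall
  have hns : ¬ (r ≠ 2 ∨ IsSquare (-1 : K)) := fun hsp => by
    obtain ⟨l, -, h⟩ := hsing n hn (O.split hsp n hn.1)
    exact hnl l h
  push Not at hns
  obtain ⟨hr2, hneg⟩ := hns
  subst hr2
  have hζ : ζ = -1 := O.root.eq_neg_one_of_two_right
  haveI := Fintype.ofFinite K
  have h2K : (2 : K) ≠ 0 := fun h => by
    refine hneg ⟨1, ?_⟩
    rw [one_mul]
    linear_combination (-1 : K) * h
  -- nonscalars normalised to square to minus one
  have hnorm' : ∀ x, P.Rem x → (∀ l : K, x ≠ l • 1) → ∃ l : K, l ≠ 0 ∧ (l • x) * (l • x) = -1 := by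
    intro x hx hxl
    obtain ⟨l, hl, hls⟩ := O.pow_scalar x hx.1
    have hnsq : ¬ IsSquare l := fun ⟨t, ht⟩ => by
      obtain ⟨l', -, h⟩ := hsing x hx ⟨t, fun h => hl (by rw [ht, h, mul_zero]), by rw [hls, ht, pow_two t]⟩
      exact hxl l' h
    obtain ⟨t, ht⟩ : IsSquare (-l) := by
      by_contra hns'
      have e1 := quadraticChar_neg_one_iff_not_isSquare.mpr hnsq
      have e2 := quadraticChar_neg_one_iff_not_isSquare.mpr hns'
      have e3 := quadraticChar_neg_one_iff_not_isSquare.mpr hneg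
      rw [neg_eq_neg_one_mul, map_mul, e1, e3] at e2
      norm_num at e2
    have ht0 : t ≠ 0 := fun h => hl (neg_eq_zero.mp (by rw [ht, h, mul_zero]))
    refine ⟨t⁻¹, inv_ne_zero ht0, ?_⟩
    rw [smul_mul_assoc, mul_smul_comm, smul_smul, ← pow_two x, hls, smul_smul,
      show t⁻¹ * t⁻¹ * l = (-1 : K) by
        rw [show l = -(t * t) by rw [← ht, neg_neg], mul_neg, ← mul_inv, inv_mul_cancel₀ (mul_ne_zero ht0 ht0)],
      neg_smul, one_smul]
  obtain ⟨lX, hlX, hX2⟩ := hnorm' n hn hnl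
  set X := lX • n
  have hXrem := Pre.rem_smul P hn hlX
  have hXl : ∀ l : K, X ≠ l • 1 := fun l h => hnl (lX⁻¹ * l) (by
    rw [← smul_smul, ← h, show X = lX • n from rfl, smul_smul, inv_mul_cancel₀ hlX, one_smul])
  obtain ⟨n₁, hn₁, hne⟩ : ∃ n₁, P.Rem n₁ ∧ X * n₁ ≠ n₁ * X := by
    by_contra h
    push Not at h
    obtain ⟨l, -, hl⟩ := P.scalar_of_central hXrem h
    exact hXl l hl
  have hn₁l : ∀ l : K, n₁ ≠ l • 1 := fun l h => hne (by rw [h, mul_smul_comm l X 1, smul_mul_assoc l 1 X, mul_one, one_mul])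
  obtain ⟨lY, hlY, hY2⟩ := hnorm' n₁ hn₁ hn₁l
  set Y := lY • n₁
  have hYrem := Pre.rem_smul P hn₁ hlY
  have hpm : ∀ e ∈ O.carrier, ∀ f ∈ O.carrier, e * f = f * e ∨ e * f = -(f * e) := by
    intro e he f hf
    obtain ⟨k, hk⟩ := O.comm e he f hf
    rw [hζ] at hk
    rcases neg_one_pow_eq_or K k with h | h <;> rw [h] at hk
    · exact Or.inl (by rw [hk, one_smul])
    · exact Or.inr (by rw [hk, neg_smul, one_smul])
  have hXYne : X * Y ≠ Y * X := fun h => hne (by
    rw [show Y = lY • n₁ from rfl, mul_smul_comm lY X n₁, smul_mul_assoc lY n₁ X] at h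
    exact smul_right_injective E hlY h)
  have hXY : X * Y = -(Y * X) := (hpm X hXrem.1 Y hYrem.1).resolve_left hXYne
  refine Or.inr ⟨rfl, h2K, hneg, X, Y, hXrem, hYrem, hX2, hY2, hXY, fun x hx => ?_⟩
  -- correct x so that it commutes with the pair
  have hfix : ∀ x, P.Rem x → x * X = X * x → x * Y = Y * x → ∃ l : K, x = l • 1 := by
    intro x hx h1 h2
    by_contra hxl
    push Not at hxl
    obtain ⟨l, -, h⟩ := hsing (x * X) (Pre.rem_mul P hx hXrem) (by
      obtain ⟨t, ht, hts⟩ := hnorm' x hx hxl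
      refine ⟨t⁻¹, inv_ne_zero ht, ?_⟩
      calc (x * X) ^ 2 = x * (X * x) * X := by rw [pow_two]; simp only [mul_assoc]
        _ = (x * x) * (X * X) := by rw [← h1]; simp only [mul_assoc]
        _ = _ := by
          have e : x * x = t⁻¹ ^ 2 • ((t • x) * (t • x)) := by
            rw [smul_mul_assoc, mul_smul_comm, smul_smul, smul_smul, pow_two,
              show t⁻¹ * t⁻¹ * t * t = 1 by field_simp, one_smul]
          rw [e, hts, hX2, smul_mul_assoc, neg_mul_neg, one_mul])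
    refine hXYne ?_
    have e : x = -(l • X) := by
      have := congrArg (fun e => e * X) h
      simp only [mul_assoc, hX2, smul_mul_assoc, one_mul, mul_neg, mul_one] at this
      rw [← this, neg_neg]
    rw [e, neg_mul, mul_neg, smul_mul_assoc l X Y, mul_smul_comm l Y X, neg_inj] at h2
    have hl0 : l ≠ 0 := fun hl => hxl 0 (by rw [e, hl, zero_smul, zero_smul, neg_zero])
    exact smul_right_injective E hl0 h2
  rcases hpm x hx.1 X hXrem.1 with hx1 | hx1 <;> rcases hpm x hx.1 Y hYrem.1 with hx2 | hx2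
  · obtain ⟨l, hl⟩ := hfix x hx hx1 hx2
    exact ⟨l, Or.inl hl⟩
  · -- multiply by X
    obtain ⟨l, hl⟩ := hfix (x * X) (Pre.rem_mul P hx hXrem) (by rw [mul_assoc, ← mul_assoc X, ← hx1, mul_assoc])
      (by rw [mul_assoc, hXY, mul_neg, ← mul_assoc, hx2, neg_mul, neg_neg, mul_assoc])
    refine ⟨-l, Or.inr (Or.inl ?_)⟩
    have := congrArg (fun e => e * X) hl
    simp only [mul_assoc, hX2, smul_mul_assoc, one_mul, mul_neg, mul_one] at this
    rw [neg_smul, ← this, neg_neg]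
  · -- multiply by Y
    have hYX : Y * X = -(X * Y) := by rw [hXY, neg_neg]
    obtain ⟨l, hl⟩ := hfix (x * Y) (Pre.rem_mul P hx hYrem)
      (by rw [mul_assoc, hYX, mul_neg, ← mul_assoc, hx1, neg_mul, neg_neg, mul_assoc])
      (by rw [mul_assoc, ← mul_assoc Y, ← hx2, mul_assoc])
    refine ⟨-l, Or.inr (Or.inr (Or.inl ?_))⟩
    have := congrArg (fun e => e * Y) hl
    simp only [mul_assoc, hY2, smul_mul_assoc, one_mul, mul_neg, mul_one] at this
    rw [neg_smul, ← this, neg_neg]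
  · -- multiply by both
    have hYX : Y * X = -(X * Y) := by rw [hXY, neg_neg]
    have hxXY : (x * (X * Y)) * X = X * (x * (X * Y)) := by
      calc (x * (X * Y)) * X = x * (X * (Y * X)) := by simp only [mul_assoc]
        _ = -((x * X) * (X * Y)) := by rw [hYX]; simp only [mul_neg, mul_assoc]
        _ = _ := by rw [hx1]; simp only [neg_mul, neg_neg, mul_assoc]
    have hxXY' : (x * (X * Y)) * Y = Y * (x * (X * Y)) := by
      calc (x * (X * Y)) * Y = x * ((X * Y) * Y) := by simp only [mul_assoc]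
        _ = -(x * Y) * (X * Y) := by nth_rw 1 [hXY]; simp only [mul_neg, neg_mul, mul_assoc]
        _ = _ := by rw [hx2]; simp only [neg_neg, mul_assoc]
    obtain ⟨l, hl⟩ := hfix (x * (X * Y)) (Pre.rem_mul P hx (Pre.rem_mul P hXrem hYrem)) hxXY hxXY'
    refine ⟨-l, Or.inr (Or.inr (Or.inr ?_))⟩
    have hXYsq : (X * Y) * (X * Y) = -1 := by
      calc (X * Y) * (X * Y) = X * (Y * X) * Y := by simp only [mul_assoc]
        _ = -((X * X) * (Y * Y)) := by rw [hYX]; simp only [mul_neg, neg_mul, mul_assoc]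
        _ = -1 := by rw [hX2, hY2, neg_mul_neg, one_mul]
    have := congrArg (fun e => e * (X * Y)) hl
    rw [mul_assoc, hXYsq, smul_mul_assoc, one_mul, mul_neg, mul_one] at this
    rw [neg_smul, ← this, neg_neg]

end Ops

end Cfsg.Agent.BaseThree
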